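import Groth.Agent.H9CI.Syntomic
import Mathlib.RingTheory.MvPolynomial.Localization

/-!
# Syntomic ring maps: base change, localization of the base, and locality
-/

set_option linter.style.haveILetI false

universe u

open TensorProduct MvPolynomial

namespace Groth.Agent.H9CI

variable {R : Type u} [CommRing R] {n c : ℕ}

/-- Being a relative global complete intersection depends only on the ideal of the equations. -/
theorem isRelGCI_of_span_eq {F F' : Fin c → MvPolynomial (Fin n) R}
    (h : Ideal.span (Set.range F) = Ideal.span (Set.range F')) (hF : Synt.IsRelGCI R n c F) :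
    Synt.IsRelGCI R n c F' := by
  intro p
  unfold Synt.RelGCIRing
  rw [← h]
  exact hF p

/-- Relative global complete intersections are stable under base change. -/
theorem isRelGCI_map {A : Type u} [CommRing A] (φ : R →+* A) (F : Fin c → MvPolynomial (Fin n) R)
    (hF : Synt.IsRelGCI R n c F) : Synt.IsRelGCI A n c fun i => MvPolynomial.map φ (F i) :=
  (H8Props.RelGCI.mem_locus_map φ F).mpr fun p => (H8Props.RelGCI.isRelGCI_iff F).mp hF (PrimeSpectrum.comap φ p)

variable {S : Type u} [CommRing S] [Algebra R S]

/-- Syntomic algebras are stable under base change. -/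
theorem isSyntomic_baseChange (A : Type u) [CommRing A] [Algebra R A] (h : Synt.IsSyntomic R S) :
    Synt.IsSyntomic A (A ⊗[R] S) := by
  refine isSyntomic_of_forall_prime fun q _ => ?_
  obtain ⟨g, hg, n, c, F, hF, ⟨e⟩⟩ := exists_isRelGCI_away_of_isSyntomic h
    (q.comap (Algebra.TensorProduct.includeRight : S →ₐ[R] A ⊗[R] S).toRingHom)
  refine ⟨(1 : A) ⊗ₜ[R] g, hg, ?_⟩
  obtain ⟨ψ, hψ, hker, -⟩ := H9Synt.exists_presentation_baseChange (R := R) A
    (S := Synt.RelGCIRing R n c F) (Ideal.Quotient.mkₐ R _) Ideal.Quotient.mk_surjective F Ideal.mk_ker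
  let e₁ : Synt.RelGCIRing A n c (fun i => MvPolynomial.map (algebraMap R A) (F i)) ≃ₐ[A]
      A ⊗[R] Synt.RelGCIRing R n c F :=
    (Ideal.quotientEquivAlgOfEq A hker.symm).trans (Ideal.quotientKerAlgEquivOfSurjective hψ)
  exact H9Synt.isSyntomic_of_algEquiv
    ((e₁.trans (Algebra.TensorProduct.congr AlgEquiv.refl e.symm)).trans
      (IsLocalization.Away.tensorProductEquivTMulRight R A g (Localization.Away g)))
    (isSyntomic_relGCIRing _ (isRelGCI_map (algebraMap R A) F hF))

/-- An algebra which is syntomic over a localization of the base is syntomic over the base. -/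
theorem isSyntomic_of_away_base (r : R) (A : Type u) [CommRing A] [Algebra R A] [IsLocalization.Away r A]
    [Algebra A S] [IsScalarTower R A S] (h : Synt.IsSyntomic A S) : Synt.IsSyntomic R S := by
  refine isSyntomic_of_forall_prime fun q _ => ?_
  obtain ⟨g, hg, n, c, F, hF, ⟨e⟩⟩ := exists_isRelGCI_away_of_isSyntomic h q
  refine ⟨g, hg, ?_⟩
  letI : Algebra (MvPolynomial (Fin n) R) (MvPolynomial (Fin n) A) := MvPolynomial.algebraMvPolynomial
  haveI : IsLocalization ((Submonoid.powers r).map (MvPolynomial.C (σ := Fin n))) (MvPolynomial (Fin n) A) :=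
    MvPolynomial.isLocalization (Submonoid.powers r) A
  haveI hAway : IsLocalization.Away (MvPolynomial.C r : MvPolynomial (Fin n) R) (MvPolynomial (Fin n) A) := by
    rwa [Submonoid.map_powers] at this
  have hmap : (algebraMap (MvPolynomial (Fin n) R) (MvPolynomial (Fin n) A)) = MvPolynomial.map (algebraMap R A) := rfl
  choose k F' hF' using fun i => IsLocalization.Away.surj (MvPolynomial.C r : MvPolynomial (Fin n) R) (F i)
  let G : Fin c → MvPolynomial (Fin n) A := fun i => MvPolynomial.map (algebraMap R A) (F' i)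
  have hu : IsUnit (algebraMap (MvPolynomial (Fin n) R) (MvPolynomial (Fin n) A) (MvPolynomial.C r)) :=
    IsLocalization.Away.algebraMap_isUnit _
  have hspan : Ideal.span (Set.range F) = Ideal.span (Set.range G) := by
    refine le_antisymm (Ideal.span_le.mpr ?_) (Ideal.span_le.mpr ?_) <;> rintro _ ⟨i, rfl⟩
    · refine (Ideal.mul_unit_mem_iff_mem _ (hu.pow (k i))).mp ?_
      rw [hF']
      exact Ideal.subset_span ⟨i, rfl⟩
    · show G i ∈ _
      rw [show G i = algebraMap _ _ (F' i) from rfl, ← hF']
      exact Ideal.mul_mem_right _ _ (Ideal.subset_span ⟨i, rfl⟩)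
  have hloc := (H8Props.RelGCI.mem_locus_map (algebraMap R A) F').mp (isRelGCI_of_span_eq hspan hF)
  have hgood : ∀ x ∈ badLocus F', Ideal.Quotient.mk (Ideal.span (Set.range F')) (MvPolynomial.C r) ∈
      (x : PrimeSpectrum (Synt.RelGCIRing R n c F')).asIdeal := by
    intro x hx
    by_contra hrx
    let P : PrimeSpectrum R := PrimeSpectrum.comap (algebraMap R (Synt.RelGCIRing R n c F')) x
    have hP : r ∉ P.asIdeal := hrx
    have hdisj : Disjoint (Submonoid.powers r : Set R) (P.asIdeal : Set R) := by
      rw [Set.disjoint_left]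
      rintro _ ⟨i, rfl⟩ he
      exact hP (P.isPrime.mem_of_pow_mem i he)
    haveI := IsLocalization.isPrime_of_isPrime_disjoint (Submonoid.powers r) A P.asIdeal P.isPrime hdisj
    have hd := hloc ⟨P.asIdeal.map (algebraMap R A), inferInstance⟩
    rw [show PrimeSpectrum.comap (algebraMap R A) ⟨P.asIdeal.map (algebraMap R A), inferInstance⟩ = P from
      PrimeSpectrum.ext (IsLocalization.under_map_of_isPrime_disjoint (Submonoid.powers r) A P.isPrime hdisj)] at hd
    replace hd : ringKrullDim (P.asIdeal.Fiber (Synt.RelGCIRing R n c F')) ≤ H8Props.RelGCI.bd n c :=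
      (H8Props.RelGCI.dim_fibre F' P).symm.trans_le hd
    haveI : Nontrivial (P.asIdeal.Fiber (Synt.RelGCIRing R n c F')) := by
      let q := PrimeSpectrum.preimageEquivFiber R (Synt.RelGCIRing R n c F') P ⟨x, rfl⟩
      exact ⟨⟨0, 1, fun h => q.isPrime.ne_top ((Ideal.eq_top_iff_one _).mpr (h ▸ q.asIdeal.zero_mem))⟩⟩
    have hcn : c ≤ n := by
      by_contra hc
      rw [H8Props.RelGCI.bd, if_neg hc] at hd
      exact Order.krullDim_ne_bot_iff.mpr inferInstance (le_bot_iff.mp hd)
    rw [H8Props.RelGCI.bd, if_pos hcn] at hd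
    exact notMem_badLocus F' (p := P.asIdeal) ⟨hcn, hd⟩ x rfl hx
  obtain ⟨e'⟩ := nonempty_algEquiv_awayEqs F' (MvPolynomial.C r)
  let K := Ideal.span (Set.range F')
  let L := MvPolynomial (Fin n) A
  haveI : IsLocalization.Away (Ideal.Quotient.mk K (MvPolynomial.C r))
      (L ⧸ K.map (algebraMap (MvPolynomial (Fin n) R) L)) := by
    have : IsLocalization (Algebra.algebraMapSubmonoid (MvPolynomial (Fin n) R ⧸ K)
        (Submonoid.powers (MvPolynomial.C r : MvPolynomial (Fin n) R)))
      (L ⧸ K.map (algebraMap (MvPolynomial (Fin n) R) L)) := inferInstance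
    rwa [Algebra.algebraMapSubmonoid_powers] at this
  haveI : IsScalarTower R (MvPolynomial (Fin n) R ⧸ K) (L ⧸ K.map (algebraMap (MvPolynomial (Fin n) R) L)) :=
    IsScalarTower.of_algebraMap_eq (R := R) (S := MvPolynomial (Fin n) R ⧸ K)
      (A := L ⧸ K.map (algebraMap (MvPolynomial (Fin n) R) L)) fun a =>
      congrArg (Ideal.Quotient.mk (K.map (algebraMap (MvPolynomial (Fin n) R) L)))
        (show algebraMap R L a = algebraMap (MvPolynomial (Fin n) R) L (MvPolynomial.C a) by
          rw [hmap, MvPolynomial.map_C, ← MvPolynomial.algebraMap_eq, ← IsScalarTower.algebraMap_apply])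
  have hK : K.map (algebraMap (MvPolynomial (Fin n) R) L) = Ideal.span (Set.range F) := by
    rw [hspan, Ideal.map_span, ← Set.range_comp]
    rfl
  let e₁ := ((IsLocalization.algEquiv (Submonoid.powers (Ideal.Quotient.mk K (MvPolynomial.C r)))
    (Localization.Away (Ideal.Quotient.mk K (MvPolynomial.C r)))
    (L ⧸ K.map (algebraMap (MvPolynomial (Fin n) R) L))).restrictScalars R).trans
      ((Ideal.quotientEquivAlgOfEq A hK).restrictScalars R)
  exact H9Synt.isSyntomic_of_algEquiv ((e'.symm.trans e₁).trans (e.symm.restrictScalars R))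
    (isSyntomic_relGCIRing _ (isRelGCI_awayEqs F' _ hgood))

/-- Syntomicity as a property of ring maps. -/
def SyntomicHom {R S : Type u} [CommRing R] [CommRing S] (f : R →+* S) : Prop :=
  letI := f.toAlgebra
  Synt.IsSyntomic R S

theorem syntomicHom_algebraMap {R S : Type u} [CommRing R] [CommRing S] [Algebra R S] :
    SyntomicHom (algebraMap R S) ↔ Synt.IsSyntomic R S := by
  rw [SyntomicHom, show (algebraMap R S).toAlgebra = ‹Algebra R S› from Algebra.algebra_ext _ _ fun _ => rfl]

theorem stableUnderCompositionWithLocalizationAwaySource :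
    RingHom.StableUnderCompositionWithLocalizationAwaySource @SyntomicHom := by
  intro R A T _ _ _ _ r _ f hf
  letI := f.toAlgebra
  letI := (f.comp (algebraMap R A)).toAlgebra
  haveI : IsScalarTower R A T := IsScalarTower.of_algebraMap_eq fun _ => rfl
  exact isSyntomic_of_away_base r A hf

theorem stableUnderCompositionWithLocalizationAwayTarget :
    RingHom.StableUnderCompositionWithLocalizationAwayTarget @SyntomicHom := by
  intro R S T _ _ _ _ s _ f hf
  letI := f.toAlgebra
  letI := ((algebraMap S T).comp f).toAlgebra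
  haveI : IsScalarTower R S T := IsScalarTower.of_algebraMap_eq fun _ => rfl
  exact H9Synt.isSyntomic_of_algEquiv
    ((IsLocalization.algEquiv (Submonoid.powers s) (Localization.Away s) T).restrictScalars R) (isSyntomic_away hf s)

theorem syntomicHom_respectsIso : RingHom.RespectsIso @SyntomicHom :=
  RingHom.StableUnderCompositionWithLocalizationAway.respectsIso
    ⟨stableUnderCompositionWithLocalizationAwaySource, stableUnderCompositionWithLocalizationAwayTarget⟩

theorem syntomicHom_isStableUnderBaseChange : RingHom.IsStableUnderBaseChange @SyntomicHom :=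
  RingHom.IsStableUnderBaseChange.mk syntomicHom_respectsIso fun R A S _ _ _ _ _ h =>
    syntomicHom_algebraMap.mpr (isSyntomic_baseChange A (syntomicHom_algebraMap.mp h))

theorem ofLocalizationSpanTarget_syntomicHom : RingHom.OfLocalizationSpanTarget @SyntomicHom := by
  intro R S _ _ f s hs h
  letI := f.toAlgebra
  refine isSyntomic_of_forall_prime fun q _ => ?_
  obtain ⟨g, hgs, hg⟩ : ∃ g ∈ s, g ∉ q := by
    by_contra! hall
    exact (‹q.IsPrime›).ne_top (top_le_iff.mp (hs ▸ Ideal.span_le.mpr hall))
  refine ⟨g, hg, syntomicHom_algebraMap.mp ?_⟩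
  exact h ⟨g, hgs⟩

theorem syntomicHom_propertyIsLocal : RingHom.PropertyIsLocal @SyntomicHom where
  localizationAwayPreserves := syntomicHom_isStableUnderBaseChange.localizationPreserves.away
  ofLocalizationSpanTarget := ofLocalizationSpanTarget_syntomicHom
  ofLocalizationSpan := ofLocalizationSpanTarget_syntomicHom.ofLocalizationSpan
    stableUnderCompositionWithLocalizationAwaySource
  StableUnderCompositionWithLocalizationAwayTarget := stableUnderCompositionWithLocalizationAwayTarget

end Groth.Agent.H9CI
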