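import Groth.Agent.H9CI.Nhd
import Groth.Agent.H9Hens.Local

/-!
# Finite syntomic algebras over local rings have square presentations
-/

set_option linter.style.haveILetI false

universe u

open TensorProduct MvPolynomial IsLocalRing

namespace Groth.Agent.H9CI

variable {R : Type u} [CommRing R] {B : Type u} [CommRing B] [Algebra R B]

/-- Generators of the relations near a point, as many as the variables. -/
theorem exists_generators_at {n : ℕ} (φ : MvPolynomial (Fin n) R →ₐ[R] B) (hφ : Function.Surjective φ)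
    (hfg : (RingHom.ker φ.toRingHom).FG) [Module.Flat R B] (m : Ideal B) [m.IsMaximal]
    (hlci : Synt.IsLCIOver (m.comap (algebraMap R B)).ResidueField ((m.comap (algebraMap R B)).Fiber B)) :
    ∃ z : Fin n → MvPolynomial (Fin n) R, (∀ l, z l ∈ RingHom.ker φ.toRingHom) ∧
      RingHom.ker φ.toRingHom ≤ Ideal.span (Set.range z) ⊔ m.comap φ.toRingHom * RingHom.ker φ.toRingHom := by
  classical
  set p := m.comap (algebraMap R B) with hp
  set I := RingHom.ker φ.toRingHom
  let e := PrimeSpectrum.preimageEquivFiber R B ⟨p, inferInstance⟩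
  let Qp := e ⟨⟨m, inferInstance⟩, rfl⟩
  let Q := Qp.asIdeal
  have hQ : Q.comap (Algebra.TensorProduct.includeRight : B →ₐ[R] p.Fiber B).toRingHom = m :=
    congrArg PrimeSpectrum.asIdeal (congrArg Subtype.val (e.symm_apply_apply ⟨⟨m, inferInstance⟩, rfl⟩))
  have hCI := isCIOver_of_isLCIOver hlci Q
  obtain ⟨k, F₀, hF₀⟩ := Submodule.fg_iff_exists_fin_generating_family.mp hfg
  obtain ⟨ψ, hψ, hψker, hψX⟩ := H9Synt.exists_presentation_baseChange p.ResidueField φ hφ F₀ hF₀.symm
  set π := MvPolynomial.map (σ := Fin n) (algebraMap R p.ResidueField)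
  have hψπ : ∀ z, ψ (π z) = (1 : p.ResidueField) ⊗ₜ[R] φ z := fun z => by
    induction z using MvPolynomial.induction_on with
    | C a =>
      rw [MvPolynomial.map_C, ← MvPolynomial.algebraMap_eq, ← MvPolynomial.algebraMap_eq, ψ.commutes, φ.commutes,
        ← IsScalarTower.algebraMap_apply]
      exact ((Algebra.TensorProduct.includeRight : B →ₐ[R] p.Fiber B).commutes a).symm
    | add a b ha hb => rw [map_add, map_add, map_add, ha, hb, TensorProduct.tmul_add]
    | mul_X a i ha =>
      rw [map_mul, map_mul, MvPolynomial.map_X, ha, hψX, Algebra.TensorProduct.tmul_mul_tmul, one_mul, map_mul]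
  set P' := Q.comap ψ.toRingHom with hP'def
  have hP : P'.comap π = m.comap φ.toRingHom := by
    ext z
    show ψ (π z) ∈ Q ↔ φ z ∈ m
    rw [hψπ]
    exact SetLike.ext_iff.mp hQ (φ z)
  have hkerI : RingHom.ker ψ.toRingHom = I.map π := by
    rw [hψker, ← (hF₀ : Ideal.span (Set.range F₀) = I), Ideal.map_span, ← Set.range_comp]
    rfl
  let L := Localization.AtPrime P'
  let γ := algebraMap (MvPolynomial (Fin n) p.ResidueField) L
  set J := (RingHom.ker ψ.toRingHom).map γ with hJ
  have hci := spanFinrank_add_height_eq ψ hψ Q hCI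
  change ((J.spanFinrank : ℕ) : ℕ∞) + Q.height = P'.height at hci
  have hcn : J.spanFinrank ≤ n := by
    have h1 : P'.height ≤ (n : ℕ∞) := by
      have h2 := Ideal.height_le_ringKrullDim_of_ne_top (I := P') (Ideal.IsPrime.ne_top inferInstance)
      rw [MvPolynomial.ringKrullDim_of_isNoetherianRing, ringKrullDim_eq_zero_of_field, zero_add,
        Nat.card_eq_fintype_card, Fintype.card_fin] at h2
      exact_mod_cast h2
    rw [← hci] at h1
    exact_mod_cast le_self_add.trans h1
  obtain ⟨y, hy⟩ := H4Depth.exists_fun_fin_span_eq (I := J)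
  choose w hw using fun i => (IsLocalization.mem_map_algebraMap_iff P'.primeCompl L).mp
    (hy ▸ Ideal.subset_span ⟨i, rfl⟩ : y i ∈ J)
  choose a ha F hFI hFeq using fun i => exists_smul_eq_map_mem p I ((w i).1 : MvPolynomial (Fin n) p.ResidueField)
    (hkerI ▸ (w i).1.2)
  let K := Ideal.span (Set.range F)
  have hKI : K ≤ I := Ideal.span_le.mpr (Set.range_subset_iff.mpr hFI)
  have hJK : J ≤ (K.map π).map γ := by
    refine hy.ge.trans (Ideal.span_le.mpr (Set.range_subset_iff.mpr fun i => ?_))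
    have h1 : γ (π (F i)) ∈ (K.map π).map γ :=
      Ideal.mem_map_of_mem γ (Ideal.mem_map_of_mem π (Ideal.subset_span ⟨i, rfl⟩))
    rw [← hFeq i, map_mul, ← hw i, mul_left_comm] at h1
    exact (Ideal.mul_unit_mem_iff_mem _
      (((isUnit_map_C p (ha i)).map γ).mul (IsLocalization.map_units L (w i).2))).mp h1
  let z : Fin n → MvPolynomial (Fin n) R := fun l => if h : (l : ℕ) < J.spanFinrank then F ⟨l, h⟩ else 0
  have hKz : K ≤ Ideal.span (Set.range z) := Ideal.span_le.mpr (Set.range_subset_iff.mpr fun i =>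
    Ideal.subset_span ⟨⟨i, i.2.trans_le hcn⟩, by simp [z]⟩)
  haveI : Module.Flat R (MvPolynomial (Fin n) R ⧸ I) :=
    Module.Flat.of_linearEquiv (Ideal.quotientKerAlgEquivOfSurjective hφ).toLinearEquiv
  let P := m.comap φ.toRingHom
  haveI : P.IsMaximal := Ideal.comap_isMaximal_of_surjective φ.toRingHom hφ
  refine ⟨z, fun l => ?_, fun i hi => ?_⟩
  · simp only [z]
    split_ifs with h
    · exact hFI ⟨l, h⟩
    · exact zero_mem _
  obtain ⟨s, hs, hsz⟩ := (IsLocalization.algebraMap_mem_map_algebraMap_iff P'.primeCompl L _ _).mp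
    (hJK (Ideal.mem_map_of_mem γ (hkerI ▸ Ideal.mem_map_of_mem π hi) : γ (π i) ∈ J))
  obtain ⟨a', ha', y', hy'⟩ := exists_smul_eq_map p s
  obtain ⟨b, hb, hmem⟩ := exists_C_mul_mem p K (y' * i)
    (by rw [map_mul, ← hy', mul_assoc]; exact Ideal.mul_mem_left _ _ hsz)
  let t := C b * y'
  have ht : t ∉ P := fun h => by
    change C b * y' ∈ m.comap φ.toRingHom at h
    rw [← hP, Ideal.mem_comap, map_mul, ← hy', ← mul_assoc] at h
    exact hs ((Ideal.unit_mul_mem_iff_mem _ ((isUnit_map_C p hb).mul (isUnit_map_C p ha'))).mp h)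
  rw [← mul_assoc] at hmem
  obtain ⟨k₁, hk₁, v, hv, hkv⟩ := Submodule.mem_sup.mp hmem
  have hvI : v ∈ I := by
    rw [show v = t * i - k₁ by rw [← hkv]; ring]
    exact sub_mem (Ideal.mul_mem_left _ _ hi) (hKI hk₁)
  have hv' : v ∈ P * I := by
    refine Ideal.mul_mono_left ?_ (H29Slice.inf_map_le_of_flat_quotient I p ⟨hvI, hv⟩)
    refine Ideal.map_le_iff_le_comap.mpr fun r hr => ?_
    show φ (algebraMap R _ r) ∈ m
    rw [φ.commutes]
    exact hr
  obtain ⟨u, hu⟩ := Ideal.IsMaximal.exists_inv ‹P.IsMaximal› ht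
  obtain ⟨π', hπ', e'⟩ := hu
  rw [show i = u * k₁ + (π' * i + u * v) by
    calc i = (u * t + π') * i := by rw [e', one_mul]
      _ = _ := by rw [add_mul, mul_assoc, ← hkv]; ring]
  exact Submodule.add_mem_sup (Ideal.mul_mem_left _ _ (hKz hk₁))
    (add_mem (Ideal.mul_mem_mul hπ' hi) (Ideal.mul_mem_left _ _ hv'))

variable [IsLocalRing R]

/-- Finite syntomic algebras over a local ring have square presentations. -/
theorem exists_square_presentation [Module.Finite R B] (h : Synt.IsSyntomic R B) :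
    ∃ (n : ℕ) (F : Fin n → MvPolynomial (Fin n) R), Nonempty (B ≃ₐ[R] Synt.RelGCIRing R n n F) := by
  classical
  obtain ⟨hflat, hfp, hlci⟩ := h
  haveI := hflat
  obtain ⟨n, φ, hφ, hfg⟩ := Algebra.FinitePresentation.out (R := R) (A := B) (self := hfp)
  change (RingHom.ker φ.toRingHom).FG at hfg
  set I := RingHom.ker φ.toRingHom
  haveI := H9Hens.finite_maximalSpectrum (R := R) B
  choose z hzI hz using fun m : MaximalSpectrum B =>
    exists_generators_at φ hφ hfg m.asIdeal (hlci ⟨m.asIdeal.comap (algebraMap R B), inferInstance⟩)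
  let P : MaximalSpectrum B → Ideal (MvPolynomial (Fin n) R) := fun m => m.asIdeal.comap φ.toRingHom
  have hcop : Pairwise (Function.onFun IsCoprime P) := fun i j hij => by
    rw [Function.onFun, Ideal.isCoprime_iff_sup_eq]
    exact (Ideal.comap_isMaximal_of_surjective φ.toRingHom hφ (K := i.asIdeal)).coprime_of_ne
      (Ideal.comap_isMaximal_of_surjective φ.toRingHom hφ (K := j.asIdeal))
      fun he => hij (MaximalSpectrum.ext (Ideal.comap_injective_of_surjective φ.toRingHom hφ he))
  haveI : Fintype (MaximalSpectrum B) := Fintype.ofFinite _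
  choose ε hε using fun i : MaximalSpectrum B => Ideal.exists_forall_sub_mem_ideal hcop fun j => if j = i then 1 else 0
  let X : Fin n → MvPolynomial (Fin n) R := fun l => ∑ j, ε j * z j l
  have hXI : Ideal.span (Set.range X) ≤ I := Ideal.span_le.mpr (Set.range_subset_iff.mpr fun l =>
    Ideal.sum_mem _ fun j _ => Ideal.mul_mem_left _ _ (hzI j l))
  have hle : ∀ m, I ≤ Ideal.span (Set.range X) ⊔ P m * I := fun m => by
    refine (hz m).trans (sup_le (Ideal.span_le.mpr (Set.range_subset_iff.mpr fun l => ?_)) le_sup_right)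
    rw [show z m l = X l + ∑ j, ((if m = j then 1 else 0) - ε j) * z j l by
      simp [X, sub_mul, Finset.sum_sub_distrib, ite_mul]]
    refine Submodule.add_mem_sup (Ideal.subset_span ⟨l, rfl⟩) (Ideal.sum_mem _ fun j _ => ?_)
    rw [← neg_sub, neg_mul]
    exact neg_mem (Ideal.mul_mem_mul (hε j m) (hzI j l))
  have hprod : I ≤ Ideal.span (Set.range X) ⊔ (∏ m, P m) * I := by
    refine Finset.prod_induction P (fun A => I ≤ Ideal.span (Set.range X) ⊔ A * I) (fun A A' hA hA' => ?_)
      (by rw [Ideal.one_eq_top, Ideal.top_mul]; exact le_sup_right) fun m _ => hle m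
    refine hA.trans (sup_le le_sup_left ?_)
    refine (Ideal.mul_mono_right hA').trans ?_
    rw [Ideal.mul_sup, ← mul_assoc]
    exact sup_le_sup_right Ideal.mul_le_right _
  let N : Submodule (MvPolynomial (Fin n) R) (MvPolynomial (Fin n) R ⧸ Ideal.span (Set.range X)) :=
    Submodule.map (Submodule.mkQ _) I
  obtain ⟨r, hr, hrN⟩ := Submodule.exists_sub_one_mem_and_smul_eq_zero_of_fg_of_le_smul (∏ m, P m) N
    (Submodule.FG.map _ hfg) (by
      rw [← Submodule.map_smul'']
      refine (Submodule.map_mono hprod).trans ?_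
      rw [Submodule.map_sup, Submodule.mkQ_map_self, bot_sup_eq]
      rfl)
  have hunit : IsUnit (φ r) := by
    by_contra hu
    obtain ⟨m, hm, hrm⟩ := exists_max_ideal_of_mem_nonunits hu
    have h1 : r - 1 ∈ P ⟨m, hm⟩ := (Ideal.prod_le_inf.trans (Finset.inf_le (Finset.mem_univ _))) hr
    have h2 : r ∈ P ⟨m, hm⟩ := hrm
    have h3 := sub_mem h2 h1
    rw [sub_sub_cancel] at h3
    exact (Ideal.comap_isMaximal_of_surjective φ.toRingHom hφ (K := m)).ne_top ((Ideal.eq_top_iff_one _).mpr h3)
  obtain ⟨e⟩ := nonempty_algEquiv_away_quotient φ hφ _ hXI r fun w hw => ⟨1, by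
    rw [pow_one]
    exact (Submodule.Quotient.mk_eq_zero _).mp (hrN _ (Submodule.mem_map_of_mem hw))⟩
  obtain ⟨e'⟩ := nonempty_algEquiv_awayEqs X r
  exact ⟨n + 1, awayEqs X r, ⟨(((IsLocalization.atUnits B (Submonoid.powers (φ r)) (S := Localization.Away (φ r))
    (Submonoid.powers_le.mpr hunit)).restrictScalars R).trans e).trans e'⟩⟩

end Groth.Agent.H9CI
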