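import Groth.Agent.H9CI.FiniteType
import Groth.Agent.H8Props.CMAt

/-!
# Global and local complete intersections over a field: localization and Cohen-Macaulayness
-/

set_option linter.style.haveILetI false

universe u

open IsLocalRing LocCoh

namespace Groth.Agent.H9CI

variable {k : Type u} [Field k] {S : Type u} [CommRing S] [Algebra k S]

/-- Localizations of a localization are localizations. -/
theorem nonempty_algEquiv_localization_atPrime {T : Type u} [CommRing T] [Algebra S T] (M : Submonoid S)
    [IsLocalization M T] [Algebra k T] [IsScalarTower k S T] (Q : Ideal T) [Q.IsPrime] :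
    Nonempty (Localization.AtPrime (Q.comap (algebraMap S T)) ≃ₐ[k] Localization.AtPrime Q) := by
  haveI := IsLocalization.isLocalization_isLocalization_atPrime_isLocalization (M := M) (Localization.AtPrime Q) Q
  exact ⟨(IsLocalization.algEquiv (Q.comap (algebraMap S T)).primeCompl
    (Localization.AtPrime (Q.comap (algebraMap S T))) (Localization.AtPrime Q)).restrictScalars k⟩

/-- A global complete intersection is a complete intersection at every prime. -/
theorem isCIOver_of_isGlobalCI (h : Synt.IsGlobalCI k S) (q : Ideal S) [q.IsPrime] :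
    Synt.IsCIOver k (Localization.AtPrime q) := by
  rcases h with h | ⟨n, c, hc, φ, r, hφ, hker, hdim⟩
  · exact absurd (Subsingleton.elim (1 : S) 0)
      (fun h1 => (‹q.IsPrime›).ne_top ((Ideal.eq_top_iff_one _).mpr (h1 ▸ zero_mem _)))
  · exact isCIOver_of_presentation φ hφ r hc hker hdim.le q

/-- Pointwise criterion at maximal ideals. -/
theorem isLCIOver_of_forall_maximal [Algebra.FiniteType k S]
    (h : ∀ (m : Ideal S) [m.IsMaximal], Synt.IsCIOver k (Localization.AtPrime m)) : Synt.IsLCIOver k S := by
  refine ⟨inferInstance, fun p => ?_⟩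
  obtain ⟨n, φ, hφ⟩ := Algebra.FiniteType.iff_quotient_mvPolynomial''.mp ‹Algebra.FiniteType k S›
  obtain ⟨m, hm, hle⟩ := Ideal.exists_le_maximal p.asIdeal p.isPrime.ne_top
  obtain ⟨g, hg, hG⟩ := exists_isGlobalCI_away_of_isCIOver φ hφ m (h m)
  exact ⟨g, fun h => hg (hle h), hG⟩

/-- Localizations of local complete intersections at elements. -/
theorem isLCIOver_away [Algebra.FiniteType k S] (h : Synt.IsLCIOver k S) (g : S) :
    Synt.IsLCIOver k (Localization.Away g) := by
  haveI : Algebra.FiniteType S (Localization.Away g) := IsLocalization.finiteType_of_monoid_fg (Submonoid.powers g) _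
  haveI : Algebra.FiniteType k (Localization.Away g) := Algebra.FiniteType.trans (R := k) (S := S) inferInstance inferInstance
  refine isLCIOver_of_forall_maximal fun m _ => ?_
  obtain ⟨e⟩ := nonempty_algEquiv_localization_atPrime (k := k) (Submonoid.powers g) m
  exact isCIOver_of_algEquiv e (isCIOver_of_isLCIOver h _)

/-- Every component of a presented algebra has dimension at least the number of variables minus relations. -/
theorem le_dim_quotient_minimalPrimes {n c : ℕ} (φ : MvPolynomial (Fin n) k →ₐ[k] S) (hφ : Function.Surjective φ)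
    (r : Fin c → MvPolynomial (Fin n) k) (hker : RingHom.ker φ.toRingHom = Ideal.span (Set.range r))
    (m : Ideal S) (hm : m ∈ minimalPrimes S) : ((n - c : ℕ) : WithBot ℕ∞) ≤ ringKrullDim (S ⧸ m) := by
  haveI := hm.1.1
  haveI : Algebra.FiniteType k S := Algebra.FiniteType.of_surjective φ hφ
  haveI : Algebra.FiniteType k (S ⧸ m) := Algebra.FiniteType.trans (R := k) (S := S) inferInstance inferInstance
  have h1 := height_comap_add φ hφ m
  have hmin : m.comap φ.toRingHom ∈ (Ideal.span (Set.range r)).minimalPrimes := by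
    rw [← hker]
    exact Ideal.minimalPrimes_comap_of_surjective (I := ⊥) hφ hm
  have h2 := Ideal.height_le_spanRank_toENat_of_mem_minimalPrimes _ _ hmin
  obtain ⟨d, hd, -⟩ := H8Props.FieldDim.exists_dim_trdeg k (S ⧸ m)
  obtain ⟨a, ha⟩ : ∃ a : ℕ, (m.comap φ.toRingHom).height = a :=
    ⟨_, (ENat.natCast_toNat (Ideal.height_ne_top (Ideal.IsPrime.ne_top inferInstance))).symm⟩
  have h3 : (Ideal.span (Set.range r)).spanRank.toENat ≤ c := by
    classical
    rw [Submodule.spanRank_toENat_eq_iInf_finset_card]
    refine (iInf_le _ (⟨Finset.univ.image r, by simp⟩ :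
      {s : Finset (MvPolynomial (Fin n) k) // Ideal.span (s : Set _) = Ideal.span (Set.range r)})).trans ?_
    exact_mod_cast Finset.card_image_le.trans (by simp)
  rw [ha] at h2 h1
  rw [hd] at h1 ⊢
  have h4 := h2.trans h3
  simp only [show ∀ x : ℕ, ((x : ℕ∞) : WithBot ℕ∞) = ((x : ℕ) : WithBot ℕ∞) from fun _ => rfl, ← Nat.cast_add,
    Nat.cast_le, Nat.cast_inj] at h1 h4 ⊢
  omega

/-- Localizations of global complete intersections at elements. -/
theorem isGlobalCI_away (h : Synt.IsGlobalCI k S) (g : S) : Synt.IsGlobalCI k (Localization.Away g) := by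
  rcases subsingleton_or_nontrivial (Localization.Away g) with hsub | hnt
  · exact Or.inl hsub
  rcases h with h | ⟨n, c, hc, φ, r, hφ, hker, hdim⟩
  · exact absurd ((IsLocalization.subsingleton_iff (M := Submonoid.powers g) (S := Localization.Away g)).mpr
      ⟨1, by simpa using Subsingleton.elim g 0⟩) (not_subsingleton _)
  obtain ⟨G, rfl⟩ := hφ g
  obtain ⟨P⟩ := exists_presentation_away φ hφ r (fun i => hker ▸ Ideal.subset_span ⟨i, rfl⟩) G
    fun z hz => ⟨0, by rw [pow_zero, one_mul]; exact hker ▸ hz⟩
  haveI : Algebra.FiniteType k S := Algebra.FiniteType.of_surjective φ hφ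
  haveI : Algebra.FiniteType S (Localization.Away (φ G)) := IsLocalization.finiteType_of_monoid_fg (Submonoid.powers (φ G)) _
  refine isGlobalCI_of_presentation P (N := n - c)
    (by simp only [Nat.card_eq_fintype_card, Fintype.card_sum, Fintype.card_unit, Fintype.card_fin]; omega) ?_
  refine le_antisymm (ringKrullDim_le_of_forall fun Q => ?_) ?_
  · rw [H8Props.FieldDim.dim_quotient_localization_away k S (Localization.Away (φ G)) (φ G) Q.asIdeal, ← hdim]
    exact ringKrullDim_quotient_le _
  · obtain ⟨M, hM⟩ := Ideal.exists_maximal (Localization.Away (φ G))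
    obtain ⟨m, hm, hle⟩ := Ideal.exists_minimalPrimes_le (I := ⊥) (J := M.comap (algebraMap S (Localization.Away (φ G)))) bot_le
    haveI := hm.1.1
    have hdisj : Disjoint (Submonoid.powers (φ G) : Set S) (m : Set S) := by
      rw [Set.disjoint_left]
      rintro _ ⟨e, rfl⟩ he
      exact hM.ne_top (Ideal.eq_top_of_isUnit_mem _ (hle he) ((IsLocalization.map_units (Localization.Away (φ G))
        (⟨φ G ^ e, e, rfl⟩ : Submonoid.powers (φ G)))))
    haveI := IsLocalization.isPrime_of_isPrime_disjoint (Submonoid.powers (φ G)) (Localization.Away (φ G))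
      m inferInstance hdisj
    have h3 := H8Props.FieldDim.dim_quotient_localization_away k S (Localization.Away (φ G)) (φ G)
      (m.map (algebraMap S (Localization.Away (φ G))))
    have h4 := IsLocalization.under_map_of_isPrime_disjoint (Submonoid.powers (φ G)) (Localization.Away (φ G))
      ‹m.IsPrime› hdisj
    change Ideal.comap _ _ = _ at h4
    rw [h4] at h3
    exact (le_dim_quotient_minimalPrimes φ hφ r hker m hm).trans (h3.symm.le.trans (ringKrullDim_quotient_le _))

/-- Complete intersections are Cohen-Macaulay. -/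
theorem isCohenMacaulayLocalRing_of_isCIOver [IsLocalRing S] (h : Synt.IsCIOver k S) : IsCohenMacaulayLocalRing S := by
  obtain ⟨R, _, _, _, _, rs, hrs, hreg, ⟨e⟩⟩ := h
  let J := Ideal.ofList rs
  haveI : Nontrivial (R ⧸ J) := Ideal.Quotient.nontrivial_iff.mpr fun h =>
    (maximalIdeal.isMaximal R).ne_top (top_le_iff.mp (h.ge.trans (Ideal.span_le.mpr hrs)))
  haveI : IsLocalRing (R ⧸ J) := .of_surjective' _ Ideal.Quotient.mk_surjective
  haveI : IsCohenMacaulayLocalRing (R ⧸ J) := by
    rw [H8Props.FlatDepth.isCM_iff_dim]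
    have hcm := (H4Depth.isCohenMacaulayLocalRing_of_regular R).supportDim_eq_depth
    obtain ⟨hq, -⟩ := (H05EGA4.DepthMisc.isCM_main rs hrs R hcm).1 hreg.toIsWeaklyRegular
    let e0 : (R ⧸ (J • (⊤ : Submodule R R))) ≃ₗ[R] R ⧸ J :=
      Submodule.quotEquivOfEq _ _ (by rw [smul_eq_mul, Ideal.mul_top])
    have hq' := H05EGA4.DepthMisc.isCM_congr e0 hq
    unfold LocCoh.IsCohenMacaulayModule at hq'
    rw [Module.supportDim_quotient_eq_ringKrullDim] at hq'
    rw [hq', H8Props.FlatDepth.depth_eq_of_surjective (R := R) (S := R ⧸ J) Ideal.Quotient.mk_surjective]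
  exact H8Props.CMAt.isCohenMacaulayLocalRing_of_ringEquiv e.toRingEquiv.symm

end Groth.Agent.H9CI
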