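import Groth.Agent.H9CI.RelGCINhd
import Groth.Agent.H9CI.Global
import Groth.Agent.H1CAlg.LocalDim

/-!
# Flat algebras with complete intersection fibre are locally relative global complete intersections
-/

set_option linter.style.haveILetI false

universe u

open CategoryTheory AlgebraicGeometry MvPolynomial TopologicalSpace TensorProduct

namespace Groth.Agent.H9CI

/-- The local dimension is invariant under homeomorphisms. -/
theorem localDim_homeomorph {X Y : Type u} [TopologicalSpace X] [TopologicalSpace Y] (e : X ≃ₜ Y) (x : X) :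
    FlatMor.localDim X x = FlatMor.localDim Y (e x) := by
  refine le_antisymm (le_iInf fun V => ?_) (le_iInf fun U => ?_)
  · refine iInf_le_of_le ⟨⟨e ⁻¹' V.1, V.1.isOpen.preimage e.continuous⟩, V.2⟩ (le_of_eq ?_)
    exact IsHomeomorph.topologicalKrullDim_eq _ (e.sets (t := (V.1 : Set Y)) rfl).isHomeomorph
  · refine iInf_le_of_le ⟨⟨e.symm ⁻¹' U.1, U.1.isOpen.preimage e.symm.continuous⟩,
      show e.symm (e x) ∈ U.1 from (e.symm_apply_apply x).symm ▸ U.2⟩ (le_of_eq ?_)
    exact IsHomeomorph.topologicalKrullDim_eq _ (e.symm.sets (t := (U.1 : Set X)) rfl).isHomeomorph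

variable {k : Type u} [Field k] {n : ℕ} {S : Type u} [CommRing S] [Algebra k S]

/-- Heights in a presentation are dimensions of local rings of the polynomial ring modulo the kernel. -/
theorem height_eq_dim_localization_quotient (φ : MvPolynomial (Fin n) k →ₐ[k] S) (hφ : Function.Surjective φ)
    (q : Ideal S) [q.IsPrime] (P : Ideal (MvPolynomial (Fin n) k)) [P.IsPrime] (hP : q.comap φ.toRingHom = P)
    (I : Ideal (MvPolynomial (Fin n) k)) (hI : RingHom.ker φ.toRingHom = I) :
    (q.height : WithBot ℕ∞) = ringKrullDim (Localization.AtPrime P ⧸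
      I.map (algebraMap (MvPolynomial (Fin n) k) (Localization.AtPrime P))) := by
  subst hP hI
  obtain ⟨f, hf, hker⟩ := exists_localization_presentation φ hφ q
  rw [← hker, ringKrullDim_eq_of_ringEquiv (RingHom.quotientKerEquivOfSurjective (f := f.toRingHom) hf),
    IsLocalization.AtPrime.ringKrullDim_eq_height q]

/-- The local dimension at a point with `c` equations less height than the ambient space is at most `n - c`. -/
theorem localDim_le_of_presentation (φ : MvPolynomial (Fin n) k →ₐ[k] S) (hφ : Function.Surjective φ)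
    (q : PrimeSpectrum S) (P : Ideal (MvPolynomial (Fin n) k)) [P.IsPrime] (hP : q.asIdeal.comap φ.toRingHom = P)
    (I : Ideal (MvPolynomial (Fin n) k)) (hI : RingHom.ker φ.toRingHom = I) {b b' c : ℕ}
    (hb : ringKrullDim (Localization.AtPrime P ⧸
      I.map (algebraMap (MvPolynomial (Fin n) k) (Localization.AtPrime P))) = (b : WithBot ℕ∞))
    (hb' : P.height = b') (hc : c + b = b') :
    FlatMor.localDim (PrimeSpectrum S) q ≤ ((n - c : ℕ) : WithBot ℕ∞) := by
  haveI : Algebra.FiniteType k S := Algebra.FiniteType.of_surjective φ hφ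
  haveI : Algebra.FiniteType k (S ⧸ q.asIdeal) := Algebra.FiniteType.trans (R := k) (S := S) inferInstance inferInstance
  rw [H1CAlg.localDim_spec_eq_height_add (k := k) q, height_eq_dim_localization_quotient φ hφ q.asIdeal P hP I hI, hb]
  have h1 := height_comap_add φ hφ q.asIdeal
  rw [hP, hb'] at h1
  obtain ⟨d, hd, -⟩ := H8Props.FieldDim.exists_dim_trdeg k (S ⧸ q.asIdeal)
  rw [hd] at h1 ⊢
  norm_cast at h1 ⊢
  omega

variable {R : Type u} [CommRing R] (p : Ideal R) [p.IsPrime]

/-- Elements of an extended ideal of the fibre are images, up to denominators. -/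
theorem exists_smul_eq_map_mem (I : Ideal (MvPolynomial (Fin n) R)) (w : MvPolynomial (Fin n) p.ResidueField)
    (hw : w ∈ I.map (MvPolynomial.map (algebraMap R p.ResidueField))) :
    ∃ a ∉ p, ∃ z ∈ I,
      MvPolynomial.map (algebraMap R p.ResidueField) (C a) * w = MvPolynomial.map (algebraMap R p.ResidueField) z := by
  obtain ⟨a, ha, y, hy⟩ := exists_smul_eq_map p w
  obtain ⟨b, hb, hmem⟩ := exists_C_mul_mem p I y (hy ▸ Ideal.mul_mem_left _ _ hw)
  obtain ⟨z, hz, e, he, hze⟩ := Submodule.mem_sup.mp hmem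
  refine ⟨b * a, fun h => (‹p.IsPrime›.mem_or_mem h).elim hb ha, z, hz, ?_⟩
  have he0 : MvPolynomial.map (algebraMap R p.ResidueField) e = 0 := by
    rw [← RingHom.mem_ker, MvPolynomial.ker_map, Ideal.ker_algebraMap_residueField, ← MvPolynomial.algebraMap_eq]
    exact he
  rw [map_mul C, map_mul, mul_assoc, hy, ← map_mul, ← hze, map_add, he0, add_zero]

/-- Constants outside `p` are units on the fibre. -/
theorem isUnit_map_C {a : R} (ha : a ∉ p) :
    IsUnit (MvPolynomial.map (σ := Fin n) (algebraMap R p.ResidueField) (C a)) := by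
  rw [MvPolynomial.map_C]
  exact (isUnit_iff_ne_zero.mpr fun h => ha (Ideal.algebraMap_residueField_eq_zero.mp h)).map C

/-- A prime of the fibre is determined by its contraction. -/
theorem prime_eq_of_comap_map_eq {P P' : Ideal (MvPolynomial (Fin n) p.ResidueField)} [P.IsPrime] [P'.IsPrime]
    (h : P.comap (MvPolynomial.map (algebraMap R p.ResidueField)) =
      P'.comap (MvPolynomial.map (algebraMap R p.ResidueField))) : P = P' := by
  suffices key : ∀ (A B : Ideal (MvPolynomial (Fin n) p.ResidueField)), B.IsPrime →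
      A.comap (MvPolynomial.map (algebraMap R p.ResidueField)) ≤
        B.comap (MvPolynomial.map (algebraMap R p.ResidueField)) → A ≤ B from
    le_antisymm (key _ _ ‹_› h.le) (key _ _ ‹_› h.ge)
  intro A B hB hAB z hz
  obtain ⟨a, ha, y, hy⟩ := exists_smul_eq_map p z
  have hmem : MvPolynomial.map (algebraMap R p.ResidueField) y ∈ B :=
    hAB (show _ ∈ A from hy ▸ A.mul_mem_left _ hz)
  rw [← hy] at hmem
  exact (Ideal.unit_mul_mem_iff_mem _ (isUnit_map_C p ha)).mp hmem

variable {T : Type u} [CommRing T] [Algebra R T]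

/-- Flatness at a prime and generation on the fibre give generation near the prime. -/
theorem exists_mul_mem_of_flat_localization (φ : MvPolynomial (Fin n) R →ₐ[R] T) (hφ : Function.Surjective φ)
    (hfg : (RingHom.ker φ.toRingHom).FG) (K : Ideal (MvPolynomial (Fin n) R)) (hK : K ≤ RingHom.ker φ.toRingHom)
    (q : Ideal T) [q.IsPrime] [Module.Flat R (Localization.AtPrime q)]
    (hgen : ∀ z ∈ RingHom.ker φ.toRingHom, ∃ t ∉ q.comap φ.toRingHom,
      t * z ∈ K ⊔ (q.comap (algebraMap R T)).map (algebraMap R (MvPolynomial (Fin n) R))) :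
    ∃ h ∉ q.comap φ.toRingHom, ∀ z ∈ RingHom.ker φ.toRingHom, h * z ∈ K := by
  classical
  let P := q.comap φ.toRingHom
  let L := Localization.AtPrime P
  let γ := algebraMap (MvPolynomial (Fin n) R) L
  let I := RingHom.ker φ.toRingHom
  let f : L →ₐ[R] Localization.AtPrime q := Localization.localAlgHom P q φ rfl
  have hT : Submonoid.map φ.toRingHom P.primeCompl = q.primeCompl := by
    ext x
    constructor
    · rintro ⟨a, ha, rfl⟩; exact ha
    · intro hx
      obtain ⟨a, rfl⟩ := hφ x
      exact ⟨a, hx, rfl⟩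
  have hf : Function.Surjective f := fun y => by
    obtain ⟨b, s, rfl⟩ := IsLocalization.exists_mk'_eq q.primeCompl y
    obtain ⟨a, rfl⟩ := hφ b
    obtain ⟨t, ht⟩ := hφ s
    exact ⟨IsLocalization.mk' _ a (⟨t, fun h => s.2 (ht ▸ h)⟩ : P.primeCompl), by
      show Localization.localRingHom P q φ.toRingHom rfl _ = _
      rw [Localization.localRingHom_mk']
      congr 1
      exact Subtype.ext ht⟩
  have hker : RingHom.ker f.toRingHom = I.map γ :=
    IsLocalization.ker_map (S := L) (Localization.AtPrime q) φ.toRingHom hT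
  haveI : Module.Flat R (L ⧸ I.map γ) := Module.Flat.of_linearEquiv
    ((Ideal.quotientEquivAlgOfEq R hker.symm).trans (Ideal.quotientKerAlgEquivOfSurjective hf)).toLinearEquiv
  obtain ⟨b, hb, hbK⟩ := H29Slice.exists_mul_mem_of_fibre (A := R) (I.map γ) (K.map γ) (hfg.map γ)
    (Ideal.map_mono hK) ⟨IsLocalRing.maximalIdeal L, inferInstance⟩ fun j hj => by
    obtain ⟨⟨i, s⟩, his⟩ := (IsLocalization.mem_map_algebraMap_iff P.primeCompl L).mp hj
    obtain ⟨t, ht, htz⟩ := hgen i i.2
    refine ⟨γ (t * s), fun h => ?_, ?_⟩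
    · rw [IsLocalization.AtPrime.to_map_mem_maximal_iff L P] at h
      exact (Ideal.IsPrime.mem_or_mem (Ideal.IsPrime.comap φ.toRingHom) h).elim ht s.2
    · have hp : (IsLocalRing.maximalIdeal L).comap (algebraMap R L) = q.comap (algebraMap R T) := by
        ext r
        rw [Ideal.mem_comap, IsScalarTower.algebraMap_apply R (MvPolynomial (Fin n) R) L,
          IsLocalization.AtPrime.to_map_mem_maximal_iff L P]
        show φ (algebraMap R _ r) ∈ q ↔ algebraMap R T r ∈ q
        rw [φ.commutes]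
      show γ (t * s) * j ∈ K.map γ ⊔ ((IsLocalRing.maximalIdeal L).comap (algebraMap R L)).map (algebraMap R L)
      rw [map_mul, mul_assoc, mul_comm (γ s), his, ← map_mul, hp,
        IsScalarTower.algebraMap_eq R (MvPolynomial (Fin n) R) L, ← Ideal.map_map, ← Ideal.map_sup]
      exact Ideal.mem_map_of_mem _ htz
  have hbu : IsUnit b := by_contra fun h => hb h
  have hle : I.map γ ≤ K.map γ := fun j hj => (Ideal.unit_mul_mem_iff_mem _ hbu).mp (hbK j hj)
  obtain ⟨G, hG⟩ := hfg
  have h2 : ∀ g : G, ∃ t ∈ P.primeCompl, t * (g : MvPolynomial (Fin n) R) ∈ K := fun g =>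
    (IsLocalization.algebraMap_mem_map_algebraMap_iff P.primeCompl L _ _).mp
      (hle (Ideal.mem_map_of_mem γ (hG.le (Submodule.subset_span g.2))))
  choose t ht htg using h2
  refine ⟨∏ g, t g, prod_mem (S := P.primeCompl) fun g _ => ht g, fun j hj => ?_⟩
  rw [← hG] at hj
  induction hj using Submodule.span_induction with
  | mem g hg =>
    obtain ⟨d, hd⟩ := Finset.dvd_prod_of_mem t (Finset.mem_univ (⟨g, hg⟩ : G))
    rw [hd, mul_right_comm]
    exact Ideal.mul_mem_right _ _ (htg ⟨g, hg⟩)
  | zero => rw [mul_zero]; exact zero_mem _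
  | add x y _ _ hx hy => rw [mul_add]; exact add_mem hx hy
  | smul c x _ hx => rw [smul_eq_mul, mul_left_comm]; exact Ideal.mul_mem_left _ _ hx

/-- Inverting an element killing the excess relations identifies the localizations. -/
theorem nonempty_algEquiv_away_quotient (φ : MvPolynomial (Fin n) R →ₐ[R] T) (hφ : Function.Surjective φ)
    (K : Ideal (MvPolynomial (Fin n) R)) (hK : K ≤ RingHom.ker φ.toRingHom) (G : MvPolynomial (Fin n) R)
    (hG : ∀ z ∈ RingHom.ker φ.toRingHom, ∃ m : ℕ, G ^ m * z ∈ K) :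
    Nonempty (Localization.Away (φ G) ≃ₐ[R] Localization.Away (Ideal.Quotient.mk K G)) := by
  let S' := MvPolynomial (Fin n) R ⧸ K
  let π : S' →ₐ[R] T := Ideal.Quotient.liftₐ _ φ fun z hz => hK hz
  let A := Localization.Away (φ G)
  letI : Algebra S' A := ((algebraMap T A).comp π.toRingHom).toAlgebra
  haveI : IsScalarTower R S' A := IsScalarTower.of_algebraMap_eq (R := R) (S := S') (A := A) fun x => by
    show _ = algebraMap T A (π (algebraMap R S' x))
    rw [π.commutes, ← IsScalarTower.algebraMap_apply]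
  haveI : IsLocalization.Away (Ideal.Quotient.mk K G) A := by
    refine IsLocalization.Away.mk _ ?_ (fun t => ?_) (fun a b hab => ?_)
    · exact IsLocalization.Away.algebraMap_isUnit (S := A) (φ G)
    · obtain ⟨m, a, ha⟩ := IsLocalization.Away.surj (φ G) t
      obtain ⟨a, rfl⟩ := hφ a
      exact ⟨m, Ideal.Quotient.mk _ a, ha⟩
    · obtain ⟨a, rfl⟩ := Ideal.Quotient.mk_surjective a
      obtain ⟨b, rfl⟩ := Ideal.Quotient.mk_surjective b
      obtain ⟨m, hm⟩ := IsLocalization.Away.exists_of_eq (S := A) (φ G) hab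
      have hmem : G ^ m * (a - b) ∈ RingHom.ker φ.toRingHom := by
        show φ (G ^ m * (a - b)) = 0
        rw [map_mul, map_pow, map_sub, mul_sub, sub_eq_zero]
        exact hm
      obtain ⟨l, hl⟩ := hG _ hmem
      refine ⟨l + m, ?_⟩
      rw [← map_pow, ← map_mul, ← map_mul, Ideal.Quotient.eq, ← mul_sub, pow_add, mul_assoc]
      exact hl
  exact ⟨(IsLocalization.algEquiv (Submonoid.powers (Ideal.Quotient.mk K G)) A
    (Localization.Away (Ideal.Quotient.mk K G))).restrictScalars R⟩

/-- A finitely presented algebra which is flat at a prime, with complete intersection fibre there, is a relative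
global complete intersection near the prime. -/
theorem exists_isRelGCI_nhd [Algebra.FinitePresentation R T] (q : Ideal T) [q.IsPrime]
    (hqp : q.comap (algebraMap R T) = p) (Q : Ideal (p.Fiber T)) [Q.IsPrime]
    (hQ : Q.comap (Algebra.TensorProduct.includeRight : T →ₐ[R] p.Fiber T).toRingHom = q)
    [Module.Flat R (Localization.AtPrime q)] (hCI : Synt.IsCIOver p.ResidueField (Localization.AtPrime Q)) :
    ∃ g ∉ q, ∃ (n c : ℕ) (F : Fin c → MvPolynomial (Fin n) R), Synt.IsRelGCI R n c F ∧
      Nonempty (Localization.Away g ≃ₐ[R] Synt.RelGCIRing R n c F) := by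
  classical
  obtain ⟨n, φ, hφ, hfg⟩ := Algebra.FinitePresentation.out (R := R) (A := T)
  change (RingHom.ker φ.toRingHom).FG at hfg
  set I := RingHom.ker φ.toRingHom with hIdef
  obtain ⟨m, F₀, hF₀⟩ := Submodule.fg_iff_exists_fin_generating_family.mp hfg
  obtain ⟨ψ, hψ, hψker, hψX⟩ := H9Synt.exists_presentation_baseChange p.ResidueField φ hφ F₀ hF₀.symm
  set π := MvPolynomial.map (σ := Fin n) (algebraMap R p.ResidueField)
  have hψπ : ∀ z, ψ (π z) = (1 : p.ResidueField) ⊗ₜ[R] φ z := fun z => by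
    induction z using MvPolynomial.induction_on with
    | C a =>
      rw [MvPolynomial.map_C, ← MvPolynomial.algebraMap_eq, ← MvPolynomial.algebraMap_eq, ψ.commutes, φ.commutes,
        ← IsScalarTower.algebraMap_apply]
      exact ((Algebra.TensorProduct.includeRight : T →ₐ[R] p.Fiber T).commutes a).symm
    | add a b ha hb => rw [map_add, map_add, map_add, ha, hb, TensorProduct.tmul_add]
    | mul_X a i ha =>
      rw [map_mul, map_mul, MvPolynomial.map_X, ha, hψX, Algebra.TensorProduct.tmul_mul_tmul, one_mul, map_mul]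
  set P' := Q.comap ψ.toRingHom with hP'def
  have hP : P'.comap π = q.comap φ.toRingHom := by
    ext z
    rw [← hQ]
    show ψ (π z) ∈ Q ↔ (1 : p.ResidueField) ⊗ₜ[R] φ z ∈ Q
    rw [hψπ]
  have hkerI : RingHom.ker ψ.toRingHom = I.map π := by
    rw [hψker, ← (hF₀ : Ideal.span (Set.range F₀) = I), Ideal.map_span, ← Set.range_comp]
    rfl
  let L := Localization.AtPrime P'
  let γ := algebraMap (MvPolynomial (Fin n) p.ResidueField) L
  set J := (RingHom.ker ψ.toRingHom).map γ with hJ
  -- the number of equations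
  have hci := spanFinrank_add_height_eq ψ hψ Q hCI
  change ((J.spanFinrank : ℕ) : ℕ∞) + Q.height = P'.height at hci
  set c := J.spanFinrank with hc
  have hdimP := height_comap_add ψ hψ Q
  haveI : Algebra.FiniteType p.ResidueField (p.Fiber T) := inferInstance
  haveI : Algebra.FiniteType p.ResidueField (p.Fiber T ⧸ Q) :=
    Algebra.FiniteType.trans (R := p.ResidueField) (S := p.Fiber T) inferInstance inferInstance
  obtain ⟨d, hd, -⟩ := H8Props.FieldDim.exists_dim_trdeg p.ResidueField (p.Fiber T ⧸ Q)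
  haveI : IsNoetherianRing (p.Fiber T) := Algebra.FiniteType.isNoetherianRing p.ResidueField _
  obtain ⟨b, hb⟩ : ∃ b : ℕ, Q.height = b := ⟨_, (ENat.natCast_toNat (Ideal.height_ne_top (Ideal.IsPrime.ne_top ‹_›))).symm⟩
  obtain ⟨b', hb'⟩ : ∃ b' : ℕ, P'.height = b' :=
    ⟨_, (ENat.natCast_toNat (Ideal.height_ne_top (Ideal.IsPrime.ne_top inferInstance))).symm⟩
  rw [hb, hb'] at hci
  rw [hd, ← hP'def, hb'] at hdimP
  norm_cast at hci hdimP
  -- equations lifted to the relations
  obtain ⟨y, hy⟩ := H4Depth.exists_fun_fin_span_eq (I := J)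
  choose w hw using fun i => (IsLocalization.mem_map_algebraMap_iff P'.primeCompl L).mp
    (hy ▸ Ideal.subset_span ⟨i, rfl⟩ : y i ∈ J)
  choose a ha F hFI hFeq using fun i => exists_smul_eq_map_mem p I ((w i).1 : MvPolynomial (Fin n) p.ResidueField)
    (hkerI ▸ (w i).1.2)
  let K := Ideal.span (Set.range F)
  have hKI : K ≤ I := Ideal.span_le.mpr (Set.range_subset_iff.mpr hFI)
  have hJK : J = (K.map π).map γ := by
    refine le_antisymm ?_ ?_
    · refine hy.ge.trans (Ideal.span_le.mpr (Set.range_subset_iff.mpr fun i => ?_))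
      have h1 : γ (π (F i)) ∈ (K.map π).map γ :=
        Ideal.mem_map_of_mem γ (Ideal.mem_map_of_mem π (Ideal.subset_span ⟨i, rfl⟩))
      rw [← hFeq i, map_mul, ← hw i, mul_left_comm] at h1
      exact (Ideal.mul_unit_mem_iff_mem _
        (((isUnit_map_C p (ha i)).map γ).mul (IsLocalization.map_units L (w i).2))).mp h1
    · rw [hJ, hkerI]
      exact Ideal.map_mono (Ideal.map_mono hKI)
  have hgen : ∀ z ∈ I, ∃ t ∉ q.comap φ.toRingHom,
      t * z ∈ K ⊔ (q.comap (algebraMap R T)).map (algebraMap R (MvPolynomial (Fin n) R)) := fun z hz => by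
    obtain ⟨s, hs, hsz⟩ := (IsLocalization.algebraMap_mem_map_algebraMap_iff P'.primeCompl L _ _).mp
      (hJK.le (Ideal.mem_map_of_mem γ (hkerI ▸ Ideal.mem_map_of_mem π hz) : γ (π z) ∈ J))
    obtain ⟨a', ha', y', hy'⟩ := exists_smul_eq_map p s
    obtain ⟨b'', hb'', hmem⟩ := exists_C_mul_mem p K (y' * z)
      (by rw [map_mul, ← hy', mul_assoc]; exact Ideal.mul_mem_left _ _ hsz)
    refine ⟨C b'' * y', fun h => ?_, by rw [hqp, mul_assoc]; exact hmem⟩
    rw [← hP, Ideal.mem_comap, map_mul, ← hy', ← mul_assoc] at h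
    exact hs ((Ideal.unit_mul_mem_iff_mem _ ((isUnit_map_C p hb'').mul (isUnit_map_C p ha'))).mp h)
  obtain ⟨h₁, hh₁, hh₁K⟩ := exists_mul_mem_of_flat_localization φ hφ hfg K hKI q hgen
  -- the point on the candidate presentation
  let S' := Synt.RelGCIRing R n c F
  have hKq : K ≤ q.comap φ.toRingHom := fun z hz => by
    show φ z ∈ q
    rw [show φ z = 0 from hKI hz]
    exact q.zero_mem
  haveI : ((q.comap φ.toRingHom).map (Ideal.Quotient.mk K)).IsPrime :=
    Ideal.map_isPrime_of_surjective Ideal.Quotient.mk_surjective (by rw [Ideal.mk_ker]; exact hKq)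
  let x₀ : PrimeSpectrum S' := ⟨(q.comap φ.toRingHom).map (Ideal.Quotient.mk K), inferInstance⟩
  have hx₀ : ∀ z, Ideal.Quotient.mk K z ∈ x₀.asIdeal ↔ z ∈ q.comap φ.toRingHom := fun z => by
    show z ∈ Ideal.comap (Ideal.Quotient.mk K) (Ideal.map _ _) ↔ _
    rw [Ideal.comap_map_of_surjective' _ Ideal.Quotient.mk_surjective, Ideal.mk_ker, sup_eq_left.mpr hKq]
  let pp : PrimeSpectrum R := ⟨p, inferInstance⟩
  have hx₀p : x₀ ∈ PrimeSpectrum.comap (algebraMap R S') ⁻¹' {pp} := PrimeSpectrum.ext <| by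
    ext r
    show Ideal.Quotient.mk K (algebraMap R _ r) ∈ x₀.asIdeal ↔ r ∈ p
    rw [hx₀, ← hqp]
    show φ (algebraMap R _ r) ∈ q ↔ _
    rw [φ.commutes]
    rfl
  -- its fibre dimension
  have hbad : (x₀ : Spec (CommRingCat.of S')) ∉ badLocus F := by
    refine fun hbad => hbad ⟨by omega, ?_⟩
    let u := ((presMap F).fiberHomeo pp).symm ⟨x₀, hx₀p⟩
    have hu : (presMap F).fiberι pp u = x₀ := (presMap F).fiberι_fiberHomeo_symm pp ⟨x₀, hx₀p⟩
    rw [← hu, H8Props.FieldDim.fibreDimAt_eq_localDim,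
      localDim_homeomorph (((presMap F).fiberHomeo pp).trans (PrimeSpectrum.preimageHomeomorphFiber R S' pp)) u]
    set Q' : PrimeSpectrum (p.Fiber S') := PrimeSpectrum.preimageEquivFiber R S' pp ⟨x₀, hx₀p⟩ with hQ'
    rw [show (((presMap F).fiberHomeo pp).trans (PrimeSpectrum.preimageHomeomorphFiber R S' pp)) u = Q' from
      congrArg (PrimeSpectrum.preimageHomeomorphFiber R S' pp) (((presMap F).fiberHomeo pp).apply_symm_apply _)]
    have hQ'x : ∀ s : S', (1 : p.ResidueField) ⊗ₜ[R] s ∈ Q'.asIdeal ↔ s ∈ x₀.asIdeal := fun s => by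
      have h0 := congrArg Subtype.val ((PrimeSpectrum.preimageEquivFiber R S' pp).symm_apply_apply ⟨x₀, hx₀p⟩)
      exact (SetLike.ext_iff.mp (congrArg PrimeSpectrum.asIdeal h0) s)
    obtain ⟨ψ', hψ', hψ'ker, hψ'X⟩ := H9Synt.exists_presentation_baseChange p.ResidueField
      (S := S') (Ideal.Quotient.mkₐ R K) Ideal.Quotient.mk_surjective F Ideal.mk_ker
    have hψ'π : ∀ z, ψ' (π z) = (1 : p.ResidueField) ⊗ₜ[R] Ideal.Quotient.mk K z := fun z => by
      induction z using MvPolynomial.induction_on with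
      | C a =>
        rw [MvPolynomial.map_C, ← MvPolynomial.algebraMap_eq, ← MvPolynomial.algebraMap_eq, ψ'.commutes,
          ← IsScalarTower.algebraMap_apply]
        exact ((Algebra.TensorProduct.includeRight : S' →ₐ[R] p.Fiber S').commutes a).symm
      | add a b ha hb => rw [map_add, map_add, map_add, ha, hb, TensorProduct.tmul_add]
      | mul_X a i ha =>
        rw [map_mul, map_mul, MvPolynomial.map_X, ha, hψ'X, Algebra.TensorProduct.tmul_mul_tmul, one_mul, map_mul]
        rfl
    have hP'' : Q'.asIdeal.comap ψ'.toRingHom = P' := by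
      refine prime_eq_of_comap_map_eq p ?_
      ext z
      rw [hP]
      show ψ' (π z) ∈ Q'.asIdeal ↔ _
      rw [hψ'π, hQ'x, hx₀]
    have hker' : RingHom.ker ψ'.toRingHom = K.map π := by
      rw [hψ'ker, Ideal.map_span, ← Set.range_comp]
      rfl
    refine localDim_le_of_presentation ψ' hψ' Q' P' hP'' _ hker' (b := b) ?_ hb' hci
    rw [← hJK, hJ, ← height_eq_dim_localization_quotient ψ hψ Q P' rfl _ rfl, hb]
    rfl
  obtain ⟨_, ⟨s, rfl⟩, hxs, hs⟩ := PrimeSpectrum.isTopologicalBasis_basic_opens.exists_subset_of_mem_open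
    (show x₀ ∈ (badLocus F : Set (PrimeSpectrum S'))ᶜ from hbad) (isClosed_badLocus F).isOpen_compl
  obtain ⟨z, rfl⟩ := Ideal.Quotient.mk_surjective s
  have hgood : ∀ x ∈ badLocus F, Ideal.Quotient.mk K (z * h₁) ∈ (x : PrimeSpectrum S').asIdeal := fun x hx => by
    rw [map_mul]
    exact Ideal.mul_mem_right _ _ (by_contra fun hzx => hs hzx hx)
  refine ⟨φ (z * h₁), fun h => ?_, n + 1, c + 1, awayEqs F (z * h₁), isRelGCI_awayEqs F _ hgood, ?_⟩
  · exact ((Ideal.IsPrime.comap φ.toRingHom).mem_or_mem (h : z * h₁ ∈ q.comap φ.toRingHom)).elim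
      (fun hz => hxs ((hx₀ z).mpr hz)) hh₁
  · obtain ⟨e⟩ := nonempty_algEquiv_away_quotient φ hφ K hKI (z * h₁) fun w hw => ⟨1, by
      rw [pow_one, mul_assoc]; exact K.mul_mem_left _ (hh₁K w hw)⟩
    obtain ⟨e'⟩ := nonempty_algEquiv_awayEqs F (z * h₁)
    exact ⟨e.trans e'⟩

end Groth.Agent.H9CI
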