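import Groth.Agent.H17.KoszulBC
import Mathlib.RingTheory.Localization.BaseChange

/-!
# Koszul-regularity is local
-/

set_option linter.style.haveILetI false

universe u

open CategoryTheory CategoryTheory.Limits TensorProduct
open Groth.Agent.H8Props.PseudoCoh

namespace Groth.Agent.H9CI

variable {A : Type u} [CommRing A]

/-- Koszul complexes on lists containing a unit are exact. -/
theorem koszul_exact_of_isUnit : ∀ (l : List A), (∃ f ∈ l, IsUnit f) → ∀ (h i j : ℤ), h + 1 = i → i + 1 = j →
    ∀ x : (Koszul.koszul A l).X i, (Koszul.koszul A l).d i j x = 0 → ∃ w, (Koszul.koszul A l).d h i w = x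
  | [], ⟨f, hf, _⟩, _, _, _, _, _, _, _ => absurd hf List.not_mem_nil
  | f :: l, hl, h, i, j, hh, hi, x, hx => by
    let E := Koszul.koszul A l
    let eh := coneXEquiv (f • 𝟙 E) h i hh
    let ei := coneXEquiv (f • 𝟙 E) i j hi
    let ej := coneXEquiv (f • 𝟙 E) j (j + 1) rfl
    set a := (ei x).1 with ha
    set b := (ei x).2 with hb
    have hd := H29Slice.koszul_cons_d f l i j (j + 1) hi rfl x
    have h0 : ej ((Koszul.koszul A (f :: l)).d i j x) = 0 := by rw [hx]; exact map_zero ej
    change ej ((Koszul.koszul A (f :: l)).d i j x) = (-(E.d j (j + 1) a), f • a + E.d i j b) at hd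
    rw [h0] at hd
    have hda : E.d j (j + 1) a = 0 := neg_eq_zero.mp (congrArg Prod.fst hd).symm
    have hdb : f • a + E.d i j b = 0 := (congrArg Prod.snd hd).symm
    suffices ∃ (e : E.X i) (c : E.X h), -(E.d i j e) = a ∧ f • e + E.d h i c = b by
      obtain ⟨e, c, h1, h2⟩ := this
      refine ⟨eh.symm (e, c), ei.injective ?_⟩
      have h3 : ei ((Koszul.koszul A (f :: l)).d h i (eh.symm (e, c))) =
          (-(E.d i j (eh (eh.symm (e, c))).1), f • (eh (eh.symm (e, c))).1 + E.d h i (eh (eh.symm (e, c))).2) :=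
        H29Slice.koszul_cons_d f l h i j hh hi _
      rw [eh.apply_symm_apply] at h3
      exact h3.trans (Prod.ext h1 h2)
    by_cases hf : IsUnit f
    · obtain ⟨u, rfl⟩ := hf
      refine ⟨(↑u⁻¹ : A) • b, 0, ?_, ?_⟩
      · rw [map_smul, eq_neg_of_add_eq_zero_right hdb, smul_neg, neg_neg, smul_smul, Units.inv_mul, one_smul]
      · rw [map_zero, add_zero, smul_smul, Units.mul_inv, one_smul]
    · have hl' : ∃ g ∈ l, IsUnit g := by
        obtain ⟨g, hg, hgu⟩ := hl
        rcases List.mem_cons.mp hg with rfl | hg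
        · exact absurd hgu hf
        · exact ⟨g, hg, hgu⟩
      obtain ⟨e, he⟩ := koszul_exact_of_isUnit l hl' i j (j + 1) hi rfl a hda
      have hdb' : E.d i j (b - f • -e) = 0 := by
        rw [map_sub, map_smul, map_neg, he, smul_neg, sub_neg_eq_add, add_comm]
        exact hdb
      obtain ⟨c, hc⟩ := koszul_exact_of_isUnit l hl' h i j hh hi _ hdb'
      exact ⟨-e, c, by rw [map_neg, neg_neg, he], by rw [hc, add_sub_cancel]⟩

/-- Koszul-regularity may be checked locally on basic opens. -/
theorem isKoszulRegularSeq_of_local (l : List A)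
    (H : ∀ p : Ideal A, p.IsMaximal → ∃ b ∉ p, (∃ f ∈ l, IsUnit (algebraMap A (Localization.Away b) f)) ∨
      LCI.IsKoszulRegularSeq (Localization.Away b) (l.map (algebraMap A (Localization.Away b)))) :
    LCI.IsKoszulRegularSeq A l := by
  intro i hi
  rw [← HomologicalComplex.exactAt_iff_isZero_homology,
    HomologicalComplex.exactAt_iff' _ (i - 1) i (i + 1) (by simp) (by simp),
    ShortComplex.moduleCat_exact_iff]
  intro x hx
  change (Koszul.koszul A l).X i at x
  replace hx : (Koszul.koszul A l).d i (i + 1) x = 0 := hx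
  let S : Submodule A _ := LinearMap.range ((Koszul.koszul A l).d (i - 1) i).hom
  show x ∈ S
  by_contra hxS
  let J : Ideal A :=
    { carrier := {a | a • x ∈ S}
      zero_mem' := by simp
      add_mem' := fun {a b} ha hb => by
        show (a + b) • x ∈ S
        rw [add_smul]; exact S.add_mem ha hb
      smul_mem' := fun r a ha => by
        show (r • a) • x ∈ S
        rw [smul_eq_mul, mul_smul]; exact S.smul_mem r ha }
  obtain ⟨p, hp, hJp⟩ := Ideal.exists_le_maximal J fun h => hxS (by
    have : (1 : A) ∈ J := h ▸ trivial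
    simpa [J] using this)
  obtain ⟨b, hb, hloc⟩ := H p hp
  let L := Localization.Away b
  obtain ⟨e, he⟩ := H17.KoszulBC.exists_equiv L l
  let y := e i ((1 : L) ⊗ₜ[A] x)
  have hy : (Koszul.koszul L (l.map (algebraMap A L))).d i (i + 1) y = 0 := by
    rw [he i (i + 1) rfl, LinearMap.baseChange_tmul]
    erw [hx]
    rw [TensorProduct.tmul_zero, map_zero]
  obtain ⟨w, hw⟩ : ∃ w, (Koszul.koszul L (l.map (algebraMap A L))).d (i - 1) i w = y := by
    rcases hloc with ⟨f, hf, hu⟩ | hk
    · exact koszul_exact_of_isUnit _ ⟨_, List.mem_map_of_mem hf, hu⟩ (i - 1) i (i + 1) (by omega) rfl y hy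
    · exact H29Slice.exists_preimage_of_isZero_homology _ (i - 1) i (i + 1) (by omega) rfl (hk i hi) y hy
  obtain ⟨z, rfl⟩ := (e (i - 1)).surjective w
  rw [he (i - 1) i (by omega)] at hw
  have hw' := (e i).injective hw
  obtain ⟨⟨z0, s⟩, hz⟩ := IsLocalizedModule.surj (Submonoid.powers b)
    (TensorProduct.mk A L ((Koszul.koszul A l).X (i - 1)) 1) z
  have h2 : TensorProduct.mk A L ((Koszul.koszul A l).X i) 1 ((Koszul.koszul A l).d (i - 1) i z0) =
      TensorProduct.mk A L ((Koszul.koszul A l).X i) 1 ((s : A) • x) := by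
    have h3 := congrArg (((Koszul.koszul A l).d (i - 1) i).hom.baseChange L) hz
    rw [show (s • z : L ⊗[A] _) = (s : A) • z from rfl, ← algebraMap_smul L (s : A) z, map_smul, hw',
      algebraMap_smul] at h3
    rw [map_smul]
    exact h3.symm
  obtain ⟨s', hs'⟩ := IsLocalizedModule.exists_of_eq (S := Submonoid.powers b) h2
  have hmem : (s' : A) * s ∈ J := by
    show ((s' : A) * s) • x ∈ S
    rw [mul_smul]
    refine ⟨(s' : A) • z0, ?_⟩
    rw [map_smul]
    exact hs'
  have := hJp hmem
  obtain ⟨k, hk⟩ := s'.2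
  obtain ⟨m, hm⟩ := s.2
  rw [← hk, ← hm] at this
  exact hb (hp.isPrime.mem_of_pow_mem _ (by rw [← pow_add] at this; exact this))

end Groth.Agent.H9CI
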