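import Groth.Agent.H9CI.RelGCI
import Groth.Agent.H9CI.KoszulLocal
import Groth.Agent.H9Synt.Basic
import Mathlib.RingTheory.Regular.Flat

/-!
# Relative global complete intersections are flat, syntomic and Koszul-regular
-/

set_option linter.style.haveILetI false

universe u

open RingTheory.Sequence

namespace Groth.Agent.H9CI

/-- Localizing a transversally regular sequence. -/
theorem isTransRegularSeq_localization {A B L : Type u} [CommRing A] [CommRing B] [CommRing L] [Algebra A B]
    [Algebra A L] [Algebra B L] [IsScalarTower A B L] (M : Submonoid B) [IsLocalization M L] {rs : List B}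
    (h : RegImm.IsTransRegularSeq A B rs) : RegImm.IsTransRegularSeq A L (rs.map (algebraMap B L)) := by
  refine ⟨h.1.of_isLocalization L M, fun j hj => ?_⟩
  rw [List.length_map] at hj
  rw [← List.map_take, ← Ideal.map_ofList]
  let J := Ideal.ofList (rs.take j)
  haveI := h.2 j hj
  haveI : Module.Flat (B ⧸ J) (L ⧸ J.map (algebraMap B L)) :=
    IsLocalization.flat _ (Algebra.algebraMapSubmonoid (B ⧸ J) M)
  haveI : IsScalarTower A (B ⧸ J) (L ⧸ J.map (algebraMap B L)) :=
    IsScalarTower.of_algebraMap_eq (R := A) (S := B ⧸ J) (A := L ⧸ J.map (algebraMap B L)) fun a =>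
      congrArg (Ideal.Quotient.mk (J.map (algebraMap B L))) (IsScalarTower.algebraMap_apply A B L a)
  exact Module.Flat.trans A (B ⧸ J) _

variable {R : Type u} [CommRing R] {n c : ℕ} (F : Fin c → MvPolynomial (Fin n) R) (h : Synt.IsRelGCI R n c F)
include h

/-- Transversal regularity in the local rings. -/
theorem isTransRegularSeq_atPrime (q : Ideal (MvPolynomial (Fin n) R)) [q.IsPrime] (hq : Ideal.span (Set.range F) ≤ q) :
    RegImm.IsTransRegularSeq R (Localization.AtPrime q)
      ((List.ofFn F).map (algebraMap (MvPolynomial (Fin n) R) (Localization.AtPrime q))) := by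
  obtain ⟨b, hb, hL⟩ := exists_transRegular F h ⟨q, inferInstance⟩ fun i => hq (Ideal.subset_span ⟨i, rfl⟩)
  let L := Localization.Away b
  have h1 := hL L
  have hle : Submonoid.powers b ≤ q.primeCompl := by
    rintro _ ⟨m, rfl⟩ hm
    exact hb (‹q.IsPrime›.mem_of_pow_mem m hm)
  letI : Algebra L (Localization.AtPrime q) := IsLocalization.localizationAlgebraOfSubmonoidLe L _ _ _ hle
  haveI : IsScalarTower (MvPolynomial (Fin n) R) L (Localization.AtPrime q) :=
    IsLocalization.localization_isScalarTower_of_submonoid_le L _ _ _ hle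
  haveI : IsScalarTower R L (Localization.AtPrime q) := IsScalarTower.of_algebraMap_eq fun x => by
    rw [IsScalarTower.algebraMap_apply R (MvPolynomial (Fin n) R) L,
      ← IsScalarTower.algebraMap_apply (MvPolynomial (Fin n) R) L, ← IsScalarTower.algebraMap_apply]
  haveI : IsLocalization (q.primeCompl.map (algebraMap (MvPolynomial (Fin n) R) L)) (Localization.AtPrime q) :=
    IsLocalization.isLocalization_of_submonoid_le L _ (Submonoid.powers b) q.primeCompl hle
  have h2 := isTransRegularSeq_localization (L := Localization.AtPrime q)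
    (q.primeCompl.map (algebraMap (MvPolynomial (Fin n) R) L)) h1
  rw [List.map_map, ← RingHom.coe_comp, ← IsScalarTower.algebraMap_eq] at h2
  exact h2

/-- Relative global complete intersections are flat. -/
theorem flat_relGCIRing : Module.Flat R (Synt.RelGCIRing R n c F) := by
  let S := Synt.RelGCIRing R n c F
  let J := Ideal.span (Set.range F)
  let s : Set S := {g | Module.Flat R (Localization.Away g)}
  refine Module.flat_of_isLocalized_span S S s ?_ (fun r => Localization.Away r.1)
    (fun r => Algebra.linearMap S (Localization.Away r.1)) fun r => r.2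
  by_contra hs
  obtain ⟨Q, hQ, hle⟩ := Ideal.exists_le_maximal _ hs
  let q := Q.comap (Ideal.Quotient.mk J)
  obtain ⟨b, hb, hL⟩ := exists_transRegular F h ⟨q, Ideal.IsPrime.comap _⟩ fun i => by
    show Ideal.Quotient.mk J (F i) ∈ Q
    rw [Ideal.Quotient.eq_zero_iff_mem.mpr (Ideal.subset_span (Set.mem_range_self i) : F i ∈ J)]
    exact Q.zero_mem
  refine hb (hle (Ideal.subset_span ?_))
  show Module.Flat R (Localization.Away (Ideal.Quotient.mk J b))
  let L := Localization.Away b
  have h1 := (hL L).2 c (by simp)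
  rw [List.take_of_length_le (by simp), ← Ideal.map_ofList,
    show Ideal.ofList (List.ofFn F) = J from congrArg Ideal.span (Set.ext fun x => List.mem_ofFn)] at h1
  haveI : IsLocalization.Away (Ideal.Quotient.mk J b) (L ⧸ J.map (algebraMap (MvPolynomial (Fin n) R) L)) := by
    have : IsLocalization (Algebra.algebraMapSubmonoid (MvPolynomial (Fin n) R ⧸ J) (Submonoid.powers b))
      (L ⧸ J.map (algebraMap (MvPolynomial (Fin n) R) L)) := inferInstance
    rwa [Algebra.algebraMapSubmonoid_powers] at this
  haveI : IsScalarTower R (MvPolynomial (Fin n) R ⧸ J) (L ⧸ J.map (algebraMap (MvPolynomial (Fin n) R) L)) :=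
    IsScalarTower.of_algebraMap_eq (R := R) (S := MvPolynomial (Fin n) R ⧸ J)
      (A := L ⧸ J.map (algebraMap (MvPolynomial (Fin n) R) L)) fun a =>
      congrArg (Ideal.Quotient.mk (J.map (algebraMap (MvPolynomial (Fin n) R) L)))
        (IsScalarTower.algebraMap_apply R (MvPolynomial (Fin n) R) L a)
  exact Module.Flat.of_linearEquiv ((IsLocalization.algEquiv (Submonoid.powers (Ideal.Quotient.mk J b))
    (Localization.Away (Ideal.Quotient.mk J b))
    (L ⧸ J.map (algebraMap (MvPolynomial (Fin n) R) L))).restrictScalars R).toLinearEquiv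

/-- Relative global complete intersections are syntomic. -/
theorem isSyntomic_relGCIRing : Synt.IsSyntomic R (Synt.RelGCIRing R n c F) := by
  refine ⟨flat_relGCIRing F h, Algebra.FinitePresentation.quotient ?_, fun p => ?_⟩
  · exact Submodule.fg_span (Set.finite_range F)
  rcases subsingleton_or_nontrivial (p.asIdeal.Fiber (Synt.RelGCIRing R n c F)) with hsub | hnt
  · exact H9Synt.isLCIOver_of_isGlobalCI (Or.inl hsub)
  · obtain ⟨hcn, hdim⟩ := h p hnt
    obtain ⟨ψ, hψ, hker, -⟩ := H9Synt.exists_presentation_baseChange p.asIdeal.ResidueField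
      (S := Synt.RelGCIRing R n c F) (Ideal.Quotient.mkₐ R _) Ideal.Quotient.mk_surjective F Ideal.mk_ker
    exact H9Synt.isLCIOver_of_isGlobalCI (Or.inr ⟨n, c, hcn, ψ, _, hψ, hker, hdim⟩)

/-- Relative global complete intersections have Koszul-regular equations. -/
theorem isKoszulRegularSeq_relGCI : LCI.IsKoszulRegularSeq (MvPolynomial (Fin n) R) (List.ofFn F) := by
  refine isKoszulRegularSeq_of_local _ fun q hq => ?_
  by_cases hF : ∀ i, F i ∈ q
  · obtain ⟨b, hb, hL⟩ := exists_transRegular F h ⟨q, hq.isPrime⟩ hF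
    exact ⟨b, hb, Or.inr (H29Slice.isKoszulRegular_of_isWeaklyRegular (hL (Localization.Away b)).1)⟩
  · push Not at hF
    obtain ⟨i, hi⟩ := hF
    exact ⟨F i, hi, Or.inl ⟨F i, List.mem_ofFn.mpr ⟨i, rfl⟩, IsLocalization.Away.algebraMap_isUnit (F i)⟩⟩

/-- The conormal classes of the equations are linearly independent. -/
theorem mem_span_of_sum_mem_sq (a : Fin c → MvPolynomial (Fin n) R)
    (ha : ∑ i, a i * F i ∈ Ideal.span (Set.range F) * Ideal.span (Set.range F)) (i : Fin c) :
    a i ∈ Ideal.span (Set.range F) := by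
  classical
  set I := Ideal.span (Set.range F)
  obtain ⟨b, hb, hsum⟩ : ∃ b : Fin c → MvPolynomial (Fin n) R, (∀ j, b j ∈ I) ∧ ∑ j, a j * F j = ∑ j, b j * F j := by
    refine Submodule.mul_induction_on ha (fun x hx y hy => ?_) ?_
    · obtain ⟨d, hd⟩ := Ideal.mem_span_range_iff_exists_fun.mp hy
      exact ⟨fun j => x * d j, fun j => I.mul_mem_right _ hx, by simp_rw [mul_assoc, ← Finset.mul_sum, hd]⟩
    · rintro x y ⟨b, hb, hx⟩ ⟨b', hb', hy⟩
      exact ⟨b + b', fun j => add_mem (hb j) (hb' j), by simp_rw [Pi.add_apply, add_mul, Finset.sum_add_distrib, hx, hy]⟩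
  let d := fun j => a j - b j
  have hd : ∑ j, d j * F j = 0 := by simp_rw [d, sub_mul, Finset.sum_sub_distrib, hsum, sub_self]
  suffices d i ∈ I by simpa [d] using add_mem this (hb i)
  have hH1 := H29Slice.isH1Regular_of_isKoszulRegular (isKoszulRegularSeq_relGCI F h)
  have hlen : (List.ofFn F).length = c := List.length_ofFn
  have hmem := hH1 (fun j => d (Fin.cast hlen j)) (by
    rw [← hd]
    refine Fintype.sum_equiv (finCongr hlen) _ _ fun j => ?_
    rw [List.get_ofFn]
    rfl)
  have key : ∀ v ∈ Submodule.span (MvPolynomial (Fin n) R) {v : Fin (List.ofFn F).length → MvPolynomial (Fin n) R |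
      ∃ i j, v = Pi.single i ((List.ofFn F).get j) - Pi.single j ((List.ofFn F).get i)}, ∀ k, v k ∈ I := by
    intro v hv
    induction hv using Submodule.span_induction with
    | mem v hv =>
      obtain ⟨i, j, rfl⟩ := hv
      intro k
      have hget : ∀ j, (List.ofFn F).get j ∈ I := fun j => by
        rw [List.get_ofFn]; exact Ideal.subset_span ⟨_, rfl⟩
      rw [Pi.sub_apply, Pi.single_apply, Pi.single_apply]
      exact sub_mem (ite_mem.mpr ⟨fun _ => hget j, fun _ => zero_mem _⟩)
        (ite_mem.mpr ⟨fun _ => hget i, fun _ => zero_mem _⟩)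
    | zero => exact fun k => zero_mem _
    | add x y _ _ hx hy => exact fun k => add_mem (hx k) (hy k)
    | smul r x _ hx => exact fun k => I.mul_mem_left r (hx k)
  simpa using key _ hmem (Fin.cast hlen.symm i)

end Groth.Agent.H9CI
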