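import Groth.Agent.H9CI.Nhd
import Groth.Agent.H9CI.RelGCIProps
import Groth.Agent.H9Synt.Transport

/-!
# Syntomic algebras: localization, and local presentations as relative global complete intersections
-/

set_option linter.style.haveILetI false

universe u

open TensorProduct

namespace Groth.Agent.H9CI

variable {R S : Type u} [CommRing R] [CommRing S] [Algebra R S]

/-- A prime of the fibre over a prime. -/
theorem exists_fibre_prime (q : Ideal S) [q.IsPrime] :
    ∃ (Q : Ideal ((q.comap (algebraMap R S)).Fiber S)) (_ : Q.IsPrime),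
      Q.comap (Algebra.TensorProduct.includeRight : S →ₐ[R] (q.comap (algebraMap R S)).Fiber S).toRingHom = q := by
  let e := PrimeSpectrum.preimageEquivFiber R S ⟨q.comap (algebraMap R S), inferInstance⟩
  let x : PrimeSpectrum.comap (algebraMap R S) ⁻¹' {⟨q.comap (algebraMap R S), inferInstance⟩} :=
    ⟨⟨q, inferInstance⟩, rfl⟩
  exact ⟨(e x).asIdeal, (e x).isPrime, congrArg PrimeSpectrum.asIdeal (congrArg Subtype.val (e.symm_apply_apply x))⟩

/-- Syntomic algebras are locally presented as relative global complete intersections. -/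
theorem exists_isRelGCI_away_of_isSyntomic (h : Synt.IsSyntomic R S) (q : Ideal S) [q.IsPrime] :
    ∃ g ∉ q, ∃ (n c : ℕ) (F : Fin c → MvPolynomial (Fin n) R), Synt.IsRelGCI R n c F ∧
      Nonempty (Localization.Away g ≃ₐ[R] Synt.RelGCIRing R n c F) := by
  obtain ⟨hflat, hfp, hlci⟩ := h
  haveI := hflat
  haveI := hfp
  haveI : Module.Flat S (Localization.AtPrime q) := IsLocalization.flat _ q.primeCompl
  haveI : Module.Flat R (Localization.AtPrime q) := Module.Flat.trans R S _
  obtain ⟨Q, hQp, hQ⟩ := exists_fibre_prime (R := R) q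
  exact exists_isRelGCI_nhd (q.comap (algebraMap R S)) q rfl Q hQ
    (isCIOver_of_isLCIOver (hlci ⟨q.comap (algebraMap R S), inferInstance⟩) Q)

/-- Localizations of syntomic algebras are syntomic. -/
theorem isSyntomic_away (h : Synt.IsSyntomic R S) (g : S) : Synt.IsSyntomic R (Localization.Away g) := by
  obtain ⟨hflat, hfp, hlci⟩ := h
  haveI := hflat
  haveI := hfp
  haveI : Module.Flat S (Localization.Away g) := IsLocalization.flat _ (Submonoid.powers g)
  haveI : Algebra.FinitePresentation S (Localization.Away g) := IsLocalization.Away.finitePresentation g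
  refine ⟨Module.Flat.trans R S _, Algebra.FinitePresentation.trans R S _, fun p => ?_⟩
  exact H9Synt.isLCIOver_of_algEquiv
    (IsLocalization.Away.tensorProductEquivTMulRight R p.asIdeal.ResidueField g (Localization.Away g)).symm
    (isLCIOver_away (hlci p) _)

/-- Syntomic is local on the source. -/
theorem isSyntomic_of_forall_prime (h : ∀ (q : Ideal S) [q.IsPrime], ∃ g ∉ q, Synt.IsSyntomic R (Localization.Away g)) :
    Synt.IsSyntomic R S := by
  let G : Set S := {g | Synt.IsSyntomic R (Localization.Away g)}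
  have hspan : Ideal.span G = ⊤ := by
    by_contra hne
    obtain ⟨m, hm, hle⟩ := Ideal.exists_le_maximal _ hne
    obtain ⟨g, hg, hgs⟩ := h m
    exact hg (hle (Ideal.subset_span hgs))
  haveI hflat : Module.Flat R S := Module.flat_of_isLocalized_span S S G hspan
    (fun r => Localization.Away r.1) (fun r => Algebra.linearMap S (Localization.Away r.1)) fun r => r.2.1
  haveI hfp : Algebra.FinitePresentation R S :=
    Algebra.FinitePresentation.of_span_eq_top_target G hspan fun r hr => hr.2.1
  refine ⟨hflat, hfp, fun p => ?_⟩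
  haveI : Algebra.FiniteType p.asIdeal.ResidueField (p.asIdeal.Fiber S) := inferInstance
  refine isLCIOver_of_forall_maximal fun m _ => ?_
  obtain ⟨g, hg, hgs⟩ := h (m.comap (Algebra.TensorProduct.includeRight : S →ₐ[R] p.asIdeal.Fiber S).toRingHom)
  have hL := H9Synt.isLCIOver_of_algEquiv
    (IsLocalization.Away.tensorProductEquivTMulRight R p.asIdeal.ResidueField g (Localization.Away g)) (hgs.2.2 p)
  have hdisj : Disjoint (Submonoid.powers ((1 : p.asIdeal.ResidueField) ⊗ₜ[R] g) : Set (p.asIdeal.Fiber S))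
      (m : Set (p.asIdeal.Fiber S)) := by
    rw [Set.disjoint_left]
    rintro _ ⟨i, rfl⟩ he
    exact hg (Ideal.IsPrime.mem_of_pow_mem (inferInstance : m.IsPrime) i he : ((1 : p.asIdeal.ResidueField) ⊗ₜ[R] g) ∈ m)
  haveI := IsLocalization.isPrime_of_isPrime_disjoint (Submonoid.powers ((1 : p.asIdeal.ResidueField) ⊗ₜ[R] g))
    (Localization.Away ((1 : p.asIdeal.ResidueField) ⊗ₜ[R] g)) m inferInstance hdisj
  have hc := IsLocalization.under_map_of_isPrime_disjoint (Submonoid.powers ((1 : p.asIdeal.ResidueField) ⊗ₜ[R] g))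
    (Localization.Away ((1 : p.asIdeal.ResidueField) ⊗ₜ[R] g)) (inferInstance : m.IsPrime) hdisj
  change Ideal.comap _ _ = _ at hc
  obtain ⟨e'⟩ := nonempty_algEquiv_localization_atPrime (k := p.asIdeal.ResidueField)
    (Submonoid.powers ((1 : p.asIdeal.ResidueField) ⊗ₜ[R] g))
    (m.map (algebraMap _ (Localization.Away ((1 : p.asIdeal.ResidueField) ⊗ₜ[R] g))))
  have h2 := isCIOver_of_algEquiv e'.symm (isCIOver_of_isLCIOver hL _)
  have key : ∀ (m' : Ideal (p.asIdeal.Fiber S)) [m'.IsPrime], m' = m →
      Synt.IsCIOver p.asIdeal.ResidueField (Localization.AtPrime m') →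
      Synt.IsCIOver p.asIdeal.ResidueField (Localization.AtPrime m) :=
    fun m' _ h h' => by subst h; exact h'
  exact key _ hc h2

/-- Syntomic algebras are locally relative global complete intersections, as basic open covers. -/
theorem exists_cover_isRelGCI (h : Synt.IsSyntomic R S) :
    ∃ s : Finset S, Ideal.span (s : Set S) = ⊤ ∧ ∀ g ∈ s, ∃ (n c : ℕ) (F : Fin c → MvPolynomial (Fin n) R),
      Synt.IsRelGCI R n c F ∧ Nonempty (Localization.Away g ≃ₐ[R] Synt.RelGCIRing R n c F) := by
  let G : Set S := {g | ∃ (n c : ℕ) (F : Fin c → MvPolynomial (Fin n) R),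
      Synt.IsRelGCI R n c F ∧ Nonempty (Localization.Away g ≃ₐ[R] Synt.RelGCIRing R n c F)}
  have hspan : Ideal.span G = ⊤ := by
    by_contra hne
    obtain ⟨m, hm, hle⟩ := Ideal.exists_le_maximal _ hne
    obtain ⟨g, hg, hG⟩ := exists_isRelGCI_away_of_isSyntomic h m
    exact hg (hle (Ideal.subset_span hG))
  obtain ⟨s, hs, hs'⟩ := (Ideal.span_eq_top_iff_finite G).mp hspan
  exact ⟨s, hs', fun g hg => hs hg⟩

end Groth.Agent.H9CI
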