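import Groth.Agent.H9CI.SyntomicScheme

/-!
# Syntomic algebras over a field, and fibres of syntomic morphisms
-/

set_option linter.style.haveILetI false

universe u

open CategoryTheory CategoryTheory.Limits AlgebraicGeometry TensorProduct

namespace Groth.Agent.H9CI

variable {k : Type u} [Field k]

/-- Over a field the only fibre ring is the algebra itself. -/
theorem ringKrullDim_fibre_eq (p : PrimeSpectrum k) (A : Type u) [CommRing A] [Algebra k A] :
    ringKrullDim (p.asIdeal.Fiber A) = ringKrullDim A := by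
  let e : k ≃ₐ[k] p.asIdeal.ResidueField := AlgEquiv.ofBijective (Algebra.ofId k p.asIdeal.ResidueField)
    ⟨RingHom.injective _, haveI : p.asIdeal.IsMaximal :=
        (IsArtinianRing.isPrime_iff_isMaximal p.asIdeal).mp p.isPrime
      Ideal.algebraMap_residueField_surjective p.asIdeal⟩
  exact ringKrullDim_eq_of_ringEquiv
    (((Algebra.TensorProduct.congr e AlgEquiv.refl).symm.trans (Algebra.TensorProduct.lid k A)).toRingEquiv)

/-- Over a field, syntomic means local complete intersection. -/
theorem isSyntomic_iff_isLCIOver (S : Type u) [CommRing S] [Algebra k S] :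
    Synt.IsSyntomic k S ↔ Synt.IsLCIOver k S := by
  refine ⟨fun h => ?_, fun h => ?_⟩
  · haveI := h.2.1
    refine ⟨inferInstance, fun q => ?_⟩
    obtain ⟨g, hg, n, c, F, hF, ⟨e⟩⟩ := exists_isRelGCI_away_of_isSyntomic h q.asIdeal
    refine ⟨g, hg, H9Synt.isGlobalCI_of_algEquiv e.symm ?_⟩
    rcases subsingleton_or_nontrivial (Synt.RelGCIRing k n c F) with hs | hs
    · exact Or.inl hs
    have hd := hF ⟨⊥, Ideal.isPrime_bot⟩
    haveI : Nontrivial ((⊥ : Ideal k).Fiber (Synt.RelGCIRing k n c F)) := by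
      by_contra hn
      rw [not_nontrivial_iff_subsingleton] at hn
      have := ringKrullDim_fibre_eq ⟨(⊥ : Ideal k), Ideal.isPrime_bot⟩ (Synt.RelGCIRing k n c F)
      rw [ringKrullDim_eq_bot_of_subsingleton] at this
      exact Order.krullDim_ne_bot_iff.mpr inferInstance this.symm
    obtain ⟨hc, hdim⟩ := hd inferInstance
    exact Or.inr ⟨n, c, hc, Ideal.Quotient.mkₐ k _, F, Ideal.Quotient.mk_surjective, Ideal.mk_ker,
      (ringKrullDim_fibre_eq ⟨⊥, Ideal.isPrime_bot⟩ _).symm.trans hdim⟩
  · haveI := h.1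
    haveI : IsNoetherianRing S := Algebra.FiniteType.isNoetherianRing k S
    refine isSyntomic_of_forall_prime fun q hq => ?_
    obtain ⟨g, hg, hG⟩ := h.2 ⟨q, hq⟩
    refine ⟨g, hg, ?_⟩
    rcases hG with hs | ⟨n, c, hc, φ, r, hφ, hker, hdim⟩
    · haveI : Nontrivial (Localization.Away g) := by
        refine ⟨⟨0, 1, fun h01 => ?_⟩⟩
        obtain ⟨⟨_, i, rfl⟩, hi⟩ := (IsLocalization.mk'_eq_zero_iff (S := Localization.Away g) (1 : S)
          (1 : Submonoid.powers g)).mp (Subsingleton.elim _ _)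
        rw [mul_one] at hi
        exact hg (hq.mem_of_pow_mem i ((show g ^ i = 0 from hi) ▸ q.zero_mem))
      exact absurd hs (not_subsingleton _)
    let e : Synt.RelGCIRing k n c r ≃ₐ[k] Localization.Away g :=
      (Ideal.quotientEquivAlgOfEq k hker.symm).trans (Ideal.quotientKerAlgEquivOfSurjective hφ)
    exact H9Synt.isSyntomic_of_algEquiv e (isSyntomic_relGCIRing r fun p _ => ⟨hc, by
      rw [ringKrullDim_fibre_eq, ringKrullDim_eq_of_ringEquiv e.toRingEquiv, hdim]⟩)

/-- If the fibres of a morphism are syntomic, then so are the fibre rings of every affine chart. -/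
theorem isLCIOver_fibre_appLE {X S : Scheme.{u}} (f : X ⟶ S) (U : X.affineOpens) (V : S.affineOpens)
    (e : U.1 ≤ f ⁻¹ᵁ V.1) (p : PrimeSpectrum Γ(S, V.1))
    (h : Synt.IsSyntomicMor (f.fiberToSpecResidueField (V.2.fromSpec p))) :
    letI := (f.appLE V.1 U.1 e).hom.toAlgebra
    Synt.IsLCIOver p.asIdeal.ResidueField (p.asIdeal.Fiber Γ(X, U.1)) := by
  letI := (f.appLE V.1 U.1 e).hom.toAlgebra
  let g := U.2.fromSpec ≫ f
  let s := V.2.fromSpec p
  have hg : syntMor (g.fiberToSpecResidueField s) := by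
    let j : g.fiber s ⟶ f.fiber s := pullback.map _ _ _ _ U.2.fromSpec (𝟙 _) (𝟙 _) (by simp [g]) (by simp)
    haveI h1 : IsOpenImmersion U.2.fromSpec := U.2.isOpenImmersion_fromSpec
    haveI : IsOpenImmersion j :=
      Scheme.pullback_map_isOpenImmersion g (S.fromSpecResidueField s) f (S.fromSpecResidueField s) U.2.fromSpec
        (𝟙 _) (𝟙 _) (by simp [g]) (by simp)
    rw [show g.fiberToSpecResidueField s = j ≫ f.fiberToSpecResidueField s by
      exact (by rw [Scheme.Hom.fiberToSpecResidueField]; exact ((pullback.lift_snd _ _ _).trans (Category.comp_id _)).symm)]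
    exact HasRingHomProperty.comp_of_isOpenImmersion syntMor.{u} j _ ((isSyntomicMor_iff_syntMor _).mp h)
  have hw : g = Spec.map (f.appLE V.1 U.1 e) ≫ V.2.fromSpec :=
    (IsAffineOpen.SpecMap_appLE_fromSpec f V.2 U.2 e).symm
  have hpb : IsPullback (𝟙 (Spec Γ(X, U.1))) (Spec.map (f.appLE V.1 U.1 e)) g V.2.fromSpec := by
    have h1 : IsPullback (𝟙 _) (Spec.map (f.appLE V.1 U.1 e)) (Spec.map (f.appLE V.1 U.1 e)) (𝟙 _) :=
      IsPullback.id_horiz _
    have h2 := h1.paste_vert (IsKernelPair.id_of_mono V.2.fromSpec)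
    rw [← hw, Category.comp_id] at h2
    exact h2
  haveI := isSyntomicMor_isStableUnderBaseChange.{u}
  have hφ : syntMor ((Spec.map (f.appLE V.1 U.1 e)).fiberToSpecResidueField p) :=
    MorphismProperty.of_isPullback (isPullback_fiberToSpecResidueField_of_isPullback hpb p) hg
  have h2 : syntMor (Spec.map (CommRingCat.ofHom
      (algebraMap p.asIdeal.ResidueField (p.asIdeal.Fiber Γ(X, U.1))))) :=
    (MorphismProperty.arrow_mk_iso_iff syntMor.{u}
      (Spec.fiberToSpecResidueFieldIso Γ(S, V.1) Γ(X, U.1) p)).mp hφ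
  exact (isSyntomic_iff_isLCIOver _).mp (syntomicHom_algebraMap.mp
    ((HasRingHomProperty.Spec_iff (P := syntMor.{u})).mp h2))

/-- A flat, locally finitely presented morphism with syntomic fibres is syntomic. -/
theorem isSyntomicMor_of_fibres {X S : Scheme.{u}} (f : X ⟶ S) [Flat f] [LocallyOfFinitePresentation f]
    (hfib : ∀ s : S, Synt.IsSyntomicMor (f.fiberToSpecResidueField s)) : Synt.IsSyntomicMor f :=
  (isSyntomicMor_iff_syntMor f).mpr ((affineLocally_iff_affineOpens_le _ f).mpr fun V U e =>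
    ⟨HasRingHomProperty.appLE @Flat f inferInstance V U e,
      HasRingHomProperty.appLE @LocallyOfFinitePresentation f inferInstance V U e,
      fun p => isLCIOver_fibre_appLE f U V e p (hfib _)⟩)

end Groth.Agent.H9CI
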