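import Groth.Agent.H9CI.BaseChange
import Mathlib.AlgebraicGeometry.Morphisms.RingHomProperties

/-!
# Syntomic morphisms are affine locally syntomic
-/

set_option linter.style.haveILetI false

universe u

open CategoryTheory AlgebraicGeometry

namespace Groth.Agent.H9CI

/-- Affine locally syntomic morphisms. -/
def syntMor : MorphismProperty Scheme.{u} := affineLocally @SyntomicHom

instance syntMor_hasRingHomProperty : HasRingHomProperty syntMor.{u} @SyntomicHom :=
  ⟨syntomicHom_propertyIsLocal, rfl⟩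

variable {X S : Scheme.{u}} (f : X ⟶ S)

theorem isSyntomicMor_iff_syntMor : Synt.IsSyntomicMor f ↔ syntMor f := by
  rw [HasRingHomProperty.iff_exists_appLE (P := syntMor.{u}) stableUnderCompositionWithLocalizationAwaySource]
  exact ⟨fun h x => let ⟨U, V, e, hx, hs⟩ := h x; ⟨V, U, hx, e, hs⟩,
    fun h x => let ⟨V, U, hx, e, hs⟩ := h x; ⟨U, V, e, hx, hs⟩⟩

/-- Syntomic morphisms are syntomic on all pairs of affine opens. -/
theorem isSyntomic_appLE (h : Synt.IsSyntomicMor f) (U : X.affineOpens) (V : S.affineOpens)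
    (e : U.1 ≤ f ⁻¹ᵁ V.1) :
    letI := (f.appLE V.1 U.1 e).hom.toAlgebra
    Synt.IsSyntomic Γ(S, V.1) Γ(X, U.1) :=
  HasRingHomProperty.appLE (P := syntMor.{u}) f ((isSyntomicMor_iff_syntMor f).mp h) V U e

theorem isSyntomicMor_Spec_iff {R T : CommRingCat.{u}} (φ : R ⟶ T) :
    Synt.IsSyntomicMor (Spec.map φ) ↔ SyntomicHom φ.hom :=
  (isSyntomicMor_iff_syntMor _).trans (HasRingHomProperty.Spec_iff (P := syntMor.{u}))

theorem isSyntomicMor_isStableUnderBaseChange : syntMor.{u}.IsStableUnderBaseChange :=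
  HasRingHomProperty.isStableUnderBaseChange syntomicHom_isStableUnderBaseChange

/-- Syntomicity can be checked on an affine open cover of the source. -/
theorem isSyntomicMor_comp_openImmersion {Y : Scheme.{u}} (j : Y ⟶ X) [IsOpenImmersion j]
    (h : Synt.IsSyntomicMor f) : Synt.IsSyntomicMor (j ≫ f) :=
  (isSyntomicMor_iff_syntMor _).mpr
    (HasRingHomProperty.comp_of_isOpenImmersion syntMor.{u} j f ((isSyntomicMor_iff_syntMor f).mp h))

end Groth.Agent.H9CI
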