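import Groth.Agent.H9CI.Global

/-!
# Presentations of essentially finite type local algebras
-/

set_option linter.style.haveILetI false

universe u

open IsLocalRing

namespace Groth.Agent.H9CI

variable {k : Type u} [Field k]

/-- The local map of a surjective presentation. -/
theorem exists_localization_presentation {n : ℕ} {S : Type u} [CommRing S] [Algebra k S]
    (φ : MvPolynomial (Fin n) k →ₐ[k] S) (hφ : Function.Surjective φ) (q : Ideal S) [q.IsPrime] :
    ∃ f : Localization.AtPrime (q.comap φ.toRingHom) →ₐ[k] Localization.AtPrime q, Function.Surjective f ∧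
      RingHom.ker f.toRingHom = (RingHom.ker φ.toRingHom).map
        (algebraMap (MvPolynomial (Fin n) k) (Localization.AtPrime (q.comap φ.toRingHom))) := by
  let p := q.comap φ.toRingHom
  have hT : Submonoid.map φ.toRingHom p.primeCompl = q.primeCompl := by
    ext x
    constructor
    · rintro ⟨a, ha, rfl⟩; exact ha
    · intro hx
      obtain ⟨a, rfl⟩ := hφ x
      exact ⟨a, hx, rfl⟩
  refine ⟨Localization.localAlgHom p q φ rfl, fun y => ?_,
    IsLocalization.ker_map (S := Localization.AtPrime p) (Localization.AtPrime q) φ.toRingHom hT⟩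
  obtain ⟨b, s, rfl⟩ := IsLocalization.exists_mk'_eq q.primeCompl y
  obtain ⟨a, rfl⟩ := hφ b
  obtain ⟨t, ht⟩ := hφ s
  exact ⟨IsLocalization.mk' _ a (⟨t, fun h => s.2 (ht ▸ h)⟩ : p.primeCompl), by
    show Localization.localRingHom p q φ.toRingHom rfl _ = _
    rw [Localization.localRingHom_mk']
    congr 1
    exact Subtype.ext ht⟩

theorem essFiniteType_localization {n : ℕ} (p : Ideal (MvPolynomial (Fin n) k)) [p.IsPrime] :
    Algebra.EssFiniteType k (Localization.AtPrime p) :=
  haveI : Algebra.EssFiniteType (MvPolynomial (Fin n) k) (Localization.AtPrime p) := .of_isLocalization _ p.primeCompl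
  Algebra.EssFiniteType.comp k (MvPolynomial (Fin n) k) _

/-- A local algebra essentially of finite type is a localization of a finitely generated one at a prime. -/
theorem exists_finiteType_localization (S : Type u) [CommRing S] [IsLocalRing S] [Algebra k S]
    [Algebra.EssFiniteType k S] :
    ∃ (A : Subalgebra k S) (_ : Algebra.FiniteType k A) (a : Ideal A) (_ : a.IsPrime),
      Nonempty (S ≃ₐ[k] Localization.AtPrime a) := by
  let A := Algebra.EssFiniteType.subalgebra k S
  let a : Ideal A := (maximalIdeal S).comap (algebraMap A S)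
  haveI : IsLocalization a.primeCompl S := by
    have h : a.primeCompl = Algebra.EssFiniteType.submonoid k S := by
      ext x
      show (¬ algebraMap A S x ∈ maximalIdeal S) ↔ IsUnit (algebraMap A S x)
      rw [mem_maximalIdeal, mem_nonunits_iff, not_not]
    rw [h]
    exact Algebra.EssFiniteType.isLocalization k S
  exact ⟨A, inferInstance, a, inferInstance,
    ⟨((IsLocalization.algEquiv a.primeCompl (Localization.AtPrime a) S).restrictScalars k).symm⟩⟩

/-- A local algebra essentially of finite type is a quotient of a regular one. -/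
theorem exists_regular_presentation (S : Type u) [CommRing S] [IsLocalRing S] [Algebra k S]
    [Algebra.EssFiniteType k S] :
    ∃ (R : Type u) (_ : CommRing R) (_ : IsRegularLocalRing R) (_ : Algebra k R),
      Algebra.EssFiniteType k R ∧ ∃ π : R →ₐ[k] S, Function.Surjective π := by
  obtain ⟨A, _, a, _, ⟨e⟩⟩ := exists_finiteType_localization (k := k) S
  obtain ⟨n, φ, hφ⟩ := Algebra.FiniteType.iff_quotient_mvPolynomial''.mp ‹Algebra.FiniteType k A›
  obtain ⟨f, hf, -⟩ := exists_localization_presentation φ hφ a
  exact ⟨_, inferInstance, inferInstance, inferInstance, essFiniteType_localization _, e.symm.toAlgHom.comp f,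
    e.symm.surjective.comp hf⟩

/-- At a complete intersection the relations are exactly as many as the codimension. -/
theorem spanFinrank_add_height_eq {n : ℕ} {S : Type u} [CommRing S] [Algebra k S]
    (φ : MvPolynomial (Fin n) k →ₐ[k] S) (hφ : Function.Surjective φ) (q : Ideal S) [q.IsPrime]
    (h : Synt.IsCIOver k (Localization.AtPrime q)) :
    ((((RingHom.ker φ.toRingHom).map (algebraMap (MvPolynomial (Fin n) k)
        (Localization.AtPrime (q.comap φ.toRingHom)))).spanFinrank : ℕ) : ℕ∞) + q.height =
      (q.comap φ.toRingHom).height := by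
  obtain ⟨f, hf, hker⟩ := exists_localization_presentation φ hφ q
  haveI := essFiniteType_localization (q.comap φ.toRingHom)
  obtain ⟨rs, -, hreg, hrs, hlen⟩ := exists_isRegular_of_isCIKer f.toRingHom hf ((isCIOver_iff f hf).mp h)
  have hdim := ringKrullDim_add_length_eq_ringKrullDim_of_isRegular rs hreg
  let e : Localization.AtPrime (q.comap φ.toRingHom) ⧸ Ideal.ofList rs ≃+* Localization.AtPrime q :=
    (Ideal.quotEquivOfEq hrs.symm).trans (RingHom.quotientKerEquivOfSurjective hf)
  rw [ringKrullDim_eq_of_ringEquiv e, IsLocalization.AtPrime.ringKrullDim_eq_height q,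
    IsLocalization.AtPrime.ringKrullDim_eq_height (q.comap φ.toRingHom), hlen, hker] at hdim
  rw [add_comm]
  exact WithBot.coe_eq_coe.mp ((WithBot.coe_add _ _).trans hdim)

end Groth.Agent.H9CI
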