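import Groth.Agent.H9CI.RelGCIProps
import Groth.Agent.H8Props.FibreDimSemicont

/-!
# Neighbourhoods on which a presentation is a relative global complete intersection
-/

set_option linter.style.haveILetI false

universe u

open CategoryTheory AlgebraicGeometry MvPolynomial TopologicalSpace

namespace Groth.Agent.H9CI

/-- A space has dimension at most `N` if all local dimensions are at most `N`. -/
theorem dim_le_of_localDim_le {X : Type u} [TopologicalSpace X] {N : WithBot ℕ∞}
    (h : ∀ x : X, FlatMor.localDim X x ≤ N) : topologicalKrullDim X ≤ N := by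
  refine iSup_le fun s => ?_
  obtain ⟨x, hx⟩ := s.head.isIrreducible.nonempty
  exact (H28Top.chain_le_localDim s hx).trans (h x)

variable {R : Type u} [CommRing R] {n c : ℕ}

/-- The equations of the principal open `h ≠ 0` of a presentation. -/
noncomputable def awayEqs (F : Fin c → MvPolynomial (Fin n) R) (h : MvPolynomial (Fin n) R) :
    Fin (c + 1) → MvPolynomial (Fin (n + 1)) R :=
  Fin.snoc (fun i => rename Fin.castSucc (F i)) (rename Fin.castSucc h * X (Fin.last n) - 1)

/-- The principal open of a presented algebra is presented by one more variable and one more equation. -/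
theorem nonempty_algEquiv_awayEqs (F : Fin c → MvPolynomial (Fin n) R) (h : MvPolynomial (Fin n) R) :
    Nonempty (Localization.Away (Ideal.Quotient.mk (Ideal.span (Set.range F)) h) ≃ₐ[R]
      Synt.RelGCIRing R (n + 1) (c + 1) (awayEqs F h)) := by
  let I := Ideal.span (Set.range F)
  let g := Ideal.Quotient.mk I h
  let T := Localization.Away g
  let J := Ideal.span (Set.range (awayEqs F h))
  let π : MvPolynomial (Fin n) R →ₐ[R] T := (IsScalarTower.toAlgHom R _ T).comp (Ideal.Quotient.mkₐ R I)
  let ev : MvPolynomial (Fin (n + 1)) R →ₐ[R] T :=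
    aeval (Fin.snoc (fun i => π (X i)) (IsLocalization.Away.invSelf g))
  have hev : ∀ z, ev (rename Fin.castSucc z) = π z := fun z => by
    refine (DFunLike.congr_fun (show ev.comp (rename Fin.castSucc) = π from MvPolynomial.algHom_ext fun i => ?_) z)
    simp [ev]
  have hJ : ∀ z ∈ J, ev z = 0 := fun z hz => by
    refine (Ideal.span_le.mpr ?_ : J ≤ RingHom.ker ev) hz
    rintro _ ⟨i, rfl⟩
    induction i using Fin.lastCases with
    | last =>
      show ev (awayEqs F h (Fin.last c)) = 0
      rw [awayEqs, Fin.snoc_last, map_sub, map_mul, hev, map_one, sub_eq_zero]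
      simp only [ev, aeval_X, Fin.snoc_last]
      exact IsLocalization.Away.mul_invSelf g
    | cast i =>
      show ev (awayEqs F h i.castSucc) = 0
      rw [awayEqs, Fin.snoc_castSucc, hev]
      show algebraMap _ T (Ideal.Quotient.mk I (F i)) = 0
      rw [Ideal.Quotient.eq_zero_iff_mem.mpr (Ideal.subset_span (Set.mem_range_self i) : F i ∈ I), map_zero]
  let Φ : Synt.RelGCIRing R (n + 1) (c + 1) (awayEqs F h) →ₐ[R] T := Ideal.Quotient.liftₐ J ev hJ
  let ρ : MvPolynomial (Fin n) R →ₐ[R] Synt.RelGCIRing R (n + 1) (c + 1) (awayEqs F h) :=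
    (Ideal.Quotient.mkₐ R J).comp (rename Fin.castSucc)
  have hρI : ∀ z ∈ I, ρ z = 0 := fun z hz => by
    refine (Ideal.span_le.mpr ?_ : I ≤ RingHom.ker ρ) hz
    rintro _ ⟨i, rfl⟩
    show Ideal.Quotient.mk J (rename Fin.castSucc (F i)) = 0
    exact Ideal.Quotient.eq_zero_iff_mem.mpr (Ideal.subset_span ⟨i.castSucc, by simp [awayEqs]⟩)
  let ρ' := Ideal.Quotient.liftₐ I ρ hρI
  have hu : IsUnit (ρ' g) := by
    refine IsUnit.of_mul_eq_one (Ideal.Quotient.mk J (X (Fin.last n))) ?_
    show Ideal.Quotient.mk J (rename Fin.castSucc h) * Ideal.Quotient.mk J (X (Fin.last n)) = Ideal.Quotient.mk J 1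
    rw [← map_mul, Ideal.Quotient.eq]
    exact Ideal.subset_span ⟨Fin.last c, by simp [awayEqs]⟩
  let Ψ : T →ₐ[R] Synt.RelGCIRing R (n + 1) (c + 1) (awayEqs F h) :=
    IsLocalization.liftAlgHom (M := Submonoid.powers g) (f := ρ') (by rintro ⟨_, m, rfl⟩; rw [map_pow]; exact hu.pow m)
  have hΨ : ∀ z, Ψ (algebraMap _ T z) = ρ' z := fun z => IsLocalization.lift_eq _ z
  refine ⟨AlgEquiv.ofAlgHom Ψ Φ (Ideal.Quotient.algHom_ext R (MvPolynomial.algHom_ext fun i => ?_)) ?_⟩
  · show Ψ (ev (X i)) = Ideal.Quotient.mk J (X i)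
    induction i using Fin.lastCases with
    | last =>
      simp only [ev, aeval_X, Fin.snoc_last]
      refine hu.mul_left_cancel ?_
      conv_lhs => rw [← hΨ, ← map_mul, IsLocalization.Away.mul_invSelf, map_one]
      show Ideal.Quotient.mk J 1 = Ideal.Quotient.mk J (rename Fin.castSucc h) * Ideal.Quotient.mk J (X (Fin.last n))
      rw [← map_mul, eq_comm, Ideal.Quotient.eq]
      exact Ideal.subset_span ⟨Fin.last c, by simp [awayEqs]⟩
    | cast i =>
      simp only [ev, aeval_X, Fin.snoc_castSucc]
      show Ψ (algebraMap _ T (Ideal.Quotient.mk I (X i))) = _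
      rw [hΨ]
      show Ideal.Quotient.mk J (rename Fin.castSucc (X i)) = _
      rw [rename_X]
  · refine IsLocalization.algHom_ext (Submonoid.powers g) ?_
    refine Ideal.Quotient.algHom_ext R (MvPolynomial.algHom_ext fun i => ?_)
    show Φ (Ψ (algebraMap _ T (Ideal.Quotient.mk I (X i)))) = algebraMap _ T (Ideal.Quotient.mk I (X i))
    rw [hΨ]
    show ev (rename Fin.castSucc (X i)) = π (X i)
    exact hev _

variable (F : Fin c → MvPolynomial (Fin n) R)

/-- The structure morphism of a presented algebra. -/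
noncomputable abbrev presMap : Spec (CommRingCat.of (Synt.RelGCIRing R n c F)) ⟶ Spec (CommRingCat.of R) :=
  Spec.map (CommRingCat.ofHom (algebraMap R (Synt.RelGCIRing R n c F)))

theorem locallyOfFiniteType_presMap : LocallyOfFiniteType (presMap F) :=
  (HasRingHomProperty.Spec_iff (P := @LocallyOfFiniteType)).mpr (RingHom.finiteType_algebraMap.mpr inferInstance)

/-- The points where the fibre dimension exceeds the expected one. -/
def badLocus : Set (Spec (CommRingCat.of (Synt.RelGCIRing R n c F))) :=
  {x | ¬ (c ≤ n ∧ FlatMor.fibreDimAt (presMap F) x ≤ ((n - c : ℕ) : WithBot ℕ∞))}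

theorem isClosed_badLocus : IsClosed (badLocus F) := by
  haveI := locallyOfFiniteType_presMap F
  by_cases hc : c ≤ n
  · have : badLocus F = {x | FlatMor.fibreDimAt (presMap F) x ≤ ((n - c : ℕ) : WithBot ℕ∞)}ᶜ := by
      ext x; simp [badLocus, hc]
    rw [this, isClosed_compl_iff]
    exact H8Props.FieldDim.isOpen_fibreDimAt_le (presMap F) (n - c)
  · have : badLocus F = Set.univ := by ext x; simp [badLocus, hc]
    rw [this]
    exact isClosed_univ

/-- A function vanishing on the bad locus cuts out a relative global complete intersection. -/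
theorem isRelGCI_awayEqs (h : MvPolynomial (Fin n) R)
    (hh : ∀ x ∈ badLocus F, Ideal.Quotient.mk (Ideal.span (Set.range F)) h ∈ (x : PrimeSpectrum _).asIdeal) :
    Synt.IsRelGCI R (n + 1) (c + 1) (awayEqs F h) := by
  rw [H8Props.RelGCI.isRelGCI_iff]
  intro p
  let g := Ideal.Quotient.mk (Ideal.span (Set.range F)) h
  let Q := Synt.RelGCIRing R (n + 1) (c + 1) (awayEqs F h)
  obtain ⟨e⟩ := nonempty_algEquiv_awayEqs F h
  letI : Algebra (Synt.RelGCIRing R n c F) Q := (e.toRingHom.comp (algebraMap _ (Localization.Away g))).toAlgebra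
  haveI : IsLocalization.Away g Q :=
    IsLocalization.isLocalization_of_algEquiv (Submonoid.powers g)
      (AlgEquiv.ofRingEquiv (f := e.toRingEquiv) fun _ => rfl)
  let j : Spec (CommRingCat.of Q) ⟶ Spec (CommRingCat.of (Synt.RelGCIRing R n c F)) :=
    Spec.map (CommRingCat.ofHom (algebraMap (Synt.RelGCIRing R n c F) Q))
  haveI : IsOpenImmersion j := IsOpenImmersion.of_isLocalization g
  haveI := locallyOfFiniteType_presMap F
  have hcomp : j ≫ presMap F = presMap (awayEqs F h) := by
    show Spec.map _ ≫ Spec.map _ = Spec.map _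
    rw [← Spec.map_comp, ← CommRingCat.ofHom_comp]
    congr 2
    refine RingHom.ext fun r => ?_
    show e (algebraMap _ (Localization.Away g) (algebraMap R _ r)) = algebraMap R Q r
    rw [← IsScalarTower.algebraMap_apply, e.commutes]
  refine dim_le_of_localDim_le fun u => ?_
  rw [← H8Props.FieldDim.fibreDimAt_eq_localDim]
  change FlatMor.fibreDimAt (presMap (awayEqs F h)) _ ≤ _
  rw [← hcomp, H8Props.FieldDim.fibreDimAt_openImmersion_comp]
  set w := (Spec.map (CommRingCat.ofHom (algebraMap R Q))).fiberι p u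
  have hgood : ¬ j w ∈ badLocus F := fun hbad =>
    (w : PrimeSpectrum Q).isPrime.ne_top (Ideal.eq_top_of_isUnit_mem _ (hh _ hbad : algebraMap _ Q g ∈ _)
      (IsLocalization.Away.algebraMap_isUnit g))
  obtain ⟨hc, hle⟩ := not_not.mp hgood
  rw [H8Props.RelGCI.bd, if_pos (Nat.succ_le_succ hc), Nat.succ_sub_succ]
  exact hle

/-- Over a prime with fibre of the expected dimension there are no bad points. -/
theorem notMem_badLocus {p : Ideal R} [p.IsPrime]
    (hdim : c ≤ n ∧ ringKrullDim (p.Fiber (Synt.RelGCIRing R n c F)) ≤ ((n - c : ℕ) : WithBot ℕ∞))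
    (x : Spec (CommRingCat.of (Synt.RelGCIRing R n c F)))
    (hx : (x : PrimeSpectrum _).asIdeal.comap (algebraMap R (Synt.RelGCIRing R n c F)) = p) :
    x ∉ badLocus F := by
  refine fun hbad => hbad ⟨hdim.1, ?_⟩
  have hp : presMap F x = (⟨p, inferInstance⟩ : PrimeSpectrum R) := PrimeSpectrum.ext hx
  show FlatMor.localDim ((presMap F).fiber (presMap F x)) ((presMap F).asFiber x) ≤ _
  refine (H28Top.localDim_le_dim _).trans ?_
  rw [hp]
  exact (H8Props.RelGCI.dim_fibre F ⟨p, inferInstance⟩).trans_le hdim.2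

end Groth.Agent.H9CI
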