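import Groth.Agent.H02CA.RegularKer
import Groth.Agent.H05EGA4.DepthMisc
import Mathlib.RingTheory.KrullDimension.Regular
import Mathlib.Algebra.Module.SpanRankOperations

/-!
# Presentations of local rings as quotients of regular local rings
-/

set_option linter.style.haveILetI false

universe u

open IsLocalRing

namespace Groth.Agent.H9CI

/-- The kernel is generated by as many elements as the dimension drops. -/
def IsCIKer {R S : Type u} [CommRing R] [CommRing S] (f : R →+* S) : Prop :=
  ringKrullDim S + ((RingHom.ker f).spanFinrank : WithBot ℕ∞) ≤ ringKrullDim R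

/-- Dimensions of nonzero quotients of Noetherian local rings are natural numbers. -/
theorem exists_nat_dim (R : Type u) [CommRing R] [IsLocalRing R] [IsNoetherianRing R] :
    ∃ d : ℕ, ringKrullDim R = (d : WithBot ℕ∞) :=
  H4Depth.exists_nat_ringKrullDim_eq

/-- An element of the maximal ideal outside its square: the quotient is regular and ideals lose one generator. -/
theorem quotient_step {R : Type u} [CommRing R] [IsRegularLocalRing R] {x : R} (hx : x ∈ maximalIdeal R)
    (hx2 : x ∉ maximalIdeal R ^ 2) :
    IsRegularLocalRing (R ⧸ Ideal.span {x}) ∧ ringKrullDim (R ⧸ Ideal.span {x}) + 1 = ringKrullDim R ∧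
      ∀ J : Ideal R, x ∈ J → J ≠ ⊤ →
        J.spanFinrank = (J.map (Ideal.Quotient.mk (Ideal.span {x}))).spanFinrank + 1 := by
  classical
  obtain ⟨hreg, hseq⟩ := H02CA.regular_quotient_of_independent (fun _ : Fin 1 => x) (fun _ => hx) (fun a ha j => by
    obtain rfl := Fin.fin_one_eq_zero j
    by_contra hu
    obtain ⟨v, hv⟩ := IsLocalRing.notMem_maximalIdeal.mp hu
    have := Ideal.mul_mem_left _ (↑v⁻¹ : R) ha
    rw [Fin.sum_univ_one, ← mul_assoc, ← hv, Units.inv_mul, one_mul] at this
    exact hx2 this)
  rw [Set.range_const] at hreg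
  refine ⟨hreg, ?_, fun J hxJ hJ => le_antisymm ?_ ?_⟩
  · have h := ringKrullDim_add_length_eq_ringKrullDim_of_isRegular _ hseq
    rw [List.length_ofFn] at h
    have hl : Ideal.ofList (List.ofFn fun _ : Fin 1 => x) = Ideal.span {x} := by simp [Ideal.ofList]
    rw [hl] at h
    simpa using h
  · let q := Ideal.Quotient.mk (Ideal.span {x})
    let s := Submodule.generators (J.map q)
    have hsfin : s.Finite := (IsNoetherian.noetherian (J.map q)).finite_generators
    choose l hl using fun y : R ⧸ Ideal.span {x} => Ideal.Quotient.mk_surjective y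
    have hJs : J ≤ Submodule.span R (insert x (l '' s)) := by
      intro y hy
      have hy' : q y ∈ (Ideal.span (l '' s)).map q := by
        rw [Ideal.map_span, ← Set.image_comp]
        have : q ∘ l = id := funext hl
        rw [this, Set.image_id]
        exact (Submodule.span_generators (J.map q)).ge (Ideal.mem_map_of_mem q hy)
      rw [← Ideal.mem_comap, Ideal.comap_map_of_surjective' q Ideal.Quotient.mk_surjective, Ideal.mk_ker, sup_comm,
        ← Ideal.span_union, Set.singleton_union] at hy'
      exact hy'
    have heq : J = Submodule.span R (insert x (l '' s)) := le_antisymm hJs (Submodule.span_le.mpr (by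
      rintro y (rfl | ⟨z, hz, rfl⟩)
      · exact hxJ
      · have hzJ : z ∈ J.map q := (Submodule.span_generators (J.map q)).le (Submodule.subset_span hz)
        rw [← hl z, ← Ideal.mem_comap, Ideal.comap_map_of_surjective' q Ideal.Quotient.mk_surjective, Ideal.mk_ker,
          sup_eq_left.mpr ((Ideal.span_singleton_le_iff_mem J).mpr hxJ)] at hzJ
        exact hzJ))
    calc J.spanFinrank = (Submodule.span R (insert x (l '' s))).spanFinrank := by rw [← heq]
      _ ≤ (insert x (l '' s)).ncard := Submodule.spanFinrank_span_le_ncard_of_finite ((hsfin.image l).insert x)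
      _ ≤ (l '' s).ncard + 1 := Set.ncard_insert_le x _
      _ ≤ (J.map q).spanFinrank + 1 := by
        rw [← (IsNoetherian.noetherian (J.map q)).generators_ncard]
        exact Nat.add_le_add_right (Set.ncard_image_le hsfin) 1
  · let q := Ideal.Quotient.mk (Ideal.span {x})
    let h := Submodule.generators J
    have hfin : h.Finite := (IsNoetherian.noetherian J).finite_generators
    have hxh : x ∈ Submodule.span R h := (Submodule.span_generators J).symm ▸ hxJ
    obtain ⟨j, hj, hjq⟩ : ∃ j ∈ h, q j ∈ Ideal.span (q '' (h \ {j})) := by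
      by_contra hall
      push Not at hall
      refine hx2 ?_
      have hJm : J ≤ maximalIdeal R := le_maximalIdeal hJ
      obtain ⟨c, hcs, hc⟩ := Submodule.mem_span_set.mp hxh
      rw [← hc, Finsupp.sum]
      refine sum_mem fun j hj => ?_
      rw [smul_eq_mul, pow_two]
      refine Ideal.mul_mem_mul ?_ (hJm ((Submodule.span_generators J).le (Submodule.subset_span (hcs hj))))
      by_contra hu
      obtain ⟨v, hv⟩ := IsLocalRing.notMem_maximalIdeal.mp hu
      refine hall j (hcs hj) ?_
      have hsum : q (c j * j) = - q (∑ i ∈ c.support.erase j, c i * i) := by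
        rw [eq_neg_iff_add_eq_zero, ← map_add, Finset.add_sum_erase _ (fun i => c i * i) hj]
        exact Ideal.Quotient.eq_zero_iff_mem.mpr (Ideal.mem_span_singleton.mpr (hc ▸ dvd_rfl))
      rw [show q j = q ↑v⁻¹ * q (c j * j) by rw [← map_mul, ← mul_assoc, ← hv, Units.inv_mul, one_mul], hsum,
        map_sum]
      refine Ideal.mul_mem_left _ _ (neg_mem (sum_mem fun i hi => ?_))
      rw [map_mul]
      exact Ideal.mul_mem_left _ _ (Ideal.subset_span ⟨i, ⟨hcs (Finset.mem_of_mem_erase hi),
        (Finset.mem_erase.mp hi).1⟩, rfl⟩)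
    have heq : J.map q = Submodule.span _ (q '' (h \ {j})) := by
      refine le_antisymm ?_ ?_
      · conv_lhs => rw [← Submodule.span_generators J]
        show (Ideal.span h).map q ≤ Ideal.span _
        rw [Ideal.map_span, Ideal.span_le]
        rintro _ ⟨i, hi, rfl⟩
        by_cases hij : i = j
        · exact hij ▸ hjq
        · exact Ideal.subset_span ⟨i, ⟨hi, hij⟩, rfl⟩
      · refine Submodule.span_le.mpr ?_
        rintro _ ⟨i, hi, rfl⟩
        exact Ideal.mem_map_of_mem _ ((Submodule.span_generators J).le (Submodule.subset_span hi.1))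
    rw [← (IsNoetherian.noetherian J).generators_ncard, show (Submodule.generators J).ncard = (h \ {j}).ncard + 1 from
      (Set.ncard_sdiff_singleton_add_one hj hfin).symm]
    refine Nat.add_le_add_right ?_ 1
    show (J.map q).spanFinrank ≤ _
    rw [heq]
    exact (Submodule.spanFinrank_span_le_ncard_of_finite (hfin.sdiff.image _)).trans (Set.ncard_image_le hfin.sdiff)

/-- Generators and dimensions along a surjection of regular local rings. -/
theorem spanFinrank_map_add : ∀ (d : ℕ) {R R' : Type u} [CommRing R] [IsRegularLocalRing R] [CommRing R']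
    [IsRegularLocalRing R'] (π : R →+* R'), Function.Surjective π → (RingHom.ker π).spanFinrank ≤ d →
      ringKrullDim R' + ((RingHom.ker π).spanFinrank : WithBot ℕ∞) = ringKrullDim R ∧
      ∀ J : Ideal R, RingHom.ker π ≤ J → J ≠ ⊤ →
        J.spanFinrank = (J.map π).spanFinrank + (RingHom.ker π).spanFinrank := by
  intro d
  induction d with
  | zero =>
    intro R R' _ _ _ _ π hπ h
    have hker : RingHom.ker π = ⊥ := (Submodule.spanFinrank_eq_zero_iff_eq_bot (IsNoetherian.noetherian _)).mp (Nat.le_zero.mp h)
    let e := RingEquiv.ofBijective π ⟨(RingHom.injective_iff_ker_eq_bot π).mpr hker, hπ⟩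
    refine ⟨?_, fun J _ _ => ?_⟩
    · rw [hker, Submodule.spanFinrank_bot, Nat.cast_zero, add_zero]
      exact (ringKrullDim_eq_of_ringEquiv e).symm
    · rw [hker, Submodule.spanFinrank_bot, add_zero]
      refine le_antisymm ?_ (Ideal.spanFinrank_map_le_of_fg π (IsNoetherian.noetherian J))
      rw [show J = (J.map π).map e.symm.toRingHom from by
        rw [Ideal.map_map, show e.symm.toRingHom.comp π = RingHom.id R from RingHom.ext e.symm_apply_apply, Ideal.map_id]]
      refine (Ideal.spanFinrank_map_le_of_fg _ (IsNoetherian.noetherian _)).trans (le_of_eq ?_)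
      rw [Ideal.map_map _ _, Ideal.map_map,
        show (π.comp e.symm.toRingHom) = RingHom.id R' from RingHom.ext e.apply_symm_apply, RingHom.id_comp]
  | succ d ih =>
    intro R R' _ _ _ _ π hπ h
    by_cases hd : (RingHom.ker π).spanFinrank ≤ d
    · exact ih π hπ hd
    have hKne : RingHom.ker π ≠ ⊤ := RingHom.ker_ne_top π
    haveI : IsRegularLocalRing (R ⧸ RingHom.ker π) :=
      IsRegularLocalRing.of_ringEquiv (RingHom.quotientKerEquivOfSurjective hπ).symm
    obtain ⟨x, hxK, hx2⟩ : ∃ x ∈ RingHom.ker π, x ∉ maximalIdeal R ^ 2 := by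
      by_contra hall
      push Not at hall
      refine hd (le_of_eq_of_le ?_ (Nat.zero_le d))
      rw [Submodule.spanFinrank_eq_zero_iff_eq_bot (IsNoetherian.noetherian _)]
      refine le_bot_iff.mp (Submodule.le_of_le_smul_of_le_jacobson_bot (I := maximalIdeal R) (IsNoetherian.noetherian _)
        (maximalIdeal_le_jacobson _) ?_)
      rw [bot_sup_eq, smul_eq_mul, mul_comm]
      exact fun z hz => H02CA.inf_sq_le_mul_of_isRegularLocalRing _ ⟨hz, hall z hz⟩
    obtain ⟨hreg, hdim, hJ⟩ := quotient_step (le_maximalIdeal hKne hxK) hx2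
    haveI := hreg
    let π' : R ⧸ Ideal.span {x} →+* R' := Ideal.Quotient.lift _ π fun z hz => by
      obtain ⟨c, rfl⟩ := Ideal.mem_span_singleton'.mp hz
      rw [map_mul, RingHom.mem_ker.mp hxK, mul_zero]
    have hπ' : Function.Surjective π' := Ideal.Quotient.lift_surjective_of_surjective _ _ hπ
    have hker' : RingHom.ker π' = (RingHom.ker π).map (Ideal.Quotient.mk (Ideal.span {x})) :=
      Ideal.ker_quotient_lift _ _
    have hK := hJ _ hxK hKne
    rw [← hker'] at hK
    obtain ⟨h1, h2⟩ := ih π' hπ' (by omega)
    refine ⟨?_, fun J hKJ hJne => ?_⟩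
    · rw [hK, Nat.cast_add, Nat.cast_one, ← add_assoc, h1, hdim]
    · rw [hJ J (hKJ hxK) hJne, hK, h2 _ (hker' ▸ Ideal.map_mono hKJ), Ideal.map_map, ← add_assoc]
      · rfl
      · intro htop
        have := congrArg (Ideal.comap (Ideal.Quotient.mk (Ideal.span {x}))) htop
        rw [Ideal.comap_map_of_surjective' _ Ideal.Quotient.mk_surjective, Ideal.mk_ker, Ideal.comap_top,
          sup_eq_left.mpr ((Ideal.span_singleton_le_iff_mem J).mpr (hKJ hxK))] at this
        exact hJne this

/-- The complete intersection property of a kernel is unchanged along surjections of regular local rings. -/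
theorem isCIKer_comp_iff {R R' S : Type u} [CommRing R] [IsRegularLocalRing R] [CommRing R'] [IsRegularLocalRing R']
    [CommRing S] [Nontrivial S] (π : R →+* R') (hπ : Function.Surjective π) (f : R' →+* S) (hf : Function.Surjective f) :
    IsCIKer (f.comp π) ↔ IsCIKer f := by
  have hker : RingHom.ker (f.comp π) = (RingHom.ker f).comap π := (RingHom.comap_ker f π).symm
  obtain ⟨h1, h2⟩ := spanFinrank_map_add _ π hπ le_rfl
  have hJ := h2 (RingHom.ker (f.comp π)) (fun z hz => by
    rw [RingHom.mem_ker, RingHom.comp_apply, RingHom.mem_ker.mp hz, map_zero]) (RingHom.ker_ne_top _)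
  haveI : IsLocalRing S := IsLocalRing.of_surjective' f hf
  haveI : IsNoetherianRing S := isNoetherianRing_of_surjective R' S f hf
  obtain ⟨a, ha⟩ := exists_nat_dim S
  obtain ⟨b, hb⟩ := exists_nat_dim R'
  rw [IsCIKer, IsCIKer, hJ, ← h1, hker, Ideal.map_comap_of_surjective π hπ, ha, hb]
  norm_cast
  omega

/-- In a regular local ring, few equations cutting down the dimension form a regular sequence. -/
theorem isRegular_of_dim_le {R : Type u} [CommRing R] [IsRegularLocalRing R] {c : ℕ} (r : Fin c → R)
    (hr : ∀ i, r i ∈ maximalIdeal R)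
    (hdim : ringKrullDim (R ⧸ Ideal.span (Set.range r)) + (c : WithBot ℕ∞) ≤ ringKrullDim R) :
    RingTheory.Sequence.IsRegular R (List.ofFn r) := by
  classical
  have hmem : ∀ x ∈ List.ofFn r, x ∈ maximalIdeal R := fun x hx => by
    obtain ⟨i, rfl⟩ := List.mem_ofFn.mp hx
    exact hr i
  have hcm := H4Depth.isCohenMacaulayLocalRing_of_regular R
  refine (RingTheory.Sequence.isRegular_iff _ _).mpr ⟨((H05EGA4.DepthMisc.isCM_main _ hmem R hcm.supportDim_eq_depth).2) ?_, ?_⟩
  · rw [List.length_ofFn, Module.supportDim_self_eq_ringKrullDim]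
    have hI : (Ideal.ofList (List.ofFn r) • ⊤ : Submodule R R) = Ideal.span (Set.range r) := by
      rw [smul_eq_mul, Ideal.mul_top]
      exact congrArg Ideal.span (Set.ext fun x => List.mem_ofFn)
    rw [hI, Module.supportDim_quotient_eq_ringKrullDim]
    refine le_antisymm hdim ?_
    have h := ringKrullDim_le_ringKrullDim_quotient_add_card (s := Finset.univ.image r) (by
      rw [IsLocalRing.ringJacobson_eq_maximalIdeal, Finset.coe_image]
      rintro _ ⟨i, -, rfl⟩
      exact hr i)
    rw [Finset.coe_image, Finset.coe_univ, Set.image_univ] at h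
    refine h.trans ?_
    gcongr
    exact_mod_cast Finset.card_image_le.trans (by simp)
  · intro h
    rw [smul_eq_mul, Ideal.mul_top] at h
    refine (maximalIdeal.isMaximal R).ne_top (top_le_iff.mp (h.le.trans ?_))
    exact Ideal.span_le.mpr hmem

/-- Complete intersection kernels are generated by regular sequences. -/
theorem exists_isRegular_of_isCIKer {R S : Type u} [CommRing R] [IsRegularLocalRing R] [CommRing S] [Nontrivial S]
    (f : R →+* S) (hf : Function.Surjective f) (h : IsCIKer f) :
    ∃ rs : List R, (∀ r ∈ rs, r ∈ maximalIdeal R) ∧ RingTheory.Sequence.IsRegular R rs ∧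
      RingHom.ker f = Ideal.ofList rs ∧ rs.length = (RingHom.ker f).spanFinrank := by
  classical
  have hfin := (IsNoetherian.noetherian (RingHom.ker f)).finite_generators
  have hcard := (IsNoetherian.noetherian (RingHom.ker f)).generators_ncard
  haveI := hfin.fintype
  let e := Fintype.equivFin (Submodule.generators (RingHom.ker f))
  let r : Fin (Fintype.card (Submodule.generators (RingHom.ker f))) → R := fun i => (e.symm i : R)
  have hrange : Set.range r = Submodule.generators (RingHom.ker f) := by
    rw [show r = Subtype.val ∘ e.symm from rfl, Set.range_comp, e.symm.surjective.range_eq, Set.image_univ,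
      Subtype.range_coe_subtype]
    rfl
  have hspan : Ideal.span (Set.range r) = RingHom.ker f := by
    rw [hrange]; exact Submodule.span_generators _
  have hr : ∀ i, r i ∈ maximalIdeal R := fun i =>
    le_maximalIdeal (RingHom.ker_ne_top f) (hspan ▸ Ideal.subset_span ⟨i, rfl⟩)
  refine ⟨List.ofFn r, fun x hx => by obtain ⟨i, rfl⟩ := List.mem_ofFn.mp hx; exact hr i, ?_, ?_, ?_⟩
  · refine isRegular_of_dim_le r hr ?_
    rw [hspan, ringKrullDim_eq_of_ringEquiv (RingHom.quotientKerEquivOfSurjective hf),
      show Fintype.card (Submodule.generators (RingHom.ker f)) = (RingHom.ker f).spanFinrank by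
        rw [← hcard, Set.ncard_eq_toFinset_card', Set.toFinset_card]]
    exact h
  · exact hspan.symm.trans (congrArg Ideal.span (Set.ext fun x => List.mem_ofFn.symm))
  · rw [List.length_ofFn, ← hcard, Set.ncard_eq_toFinset_card', Set.toFinset_card]

/-- A quotient by a regular sequence is a complete intersection kernel. -/
theorem isCIKer_of_isRegular {R S : Type u} [CommRing R] [IsRegularLocalRing R] [CommRing S]
    (f : R →+* S) (hf : Function.Surjective f) (rs : List R) (hreg : RingTheory.Sequence.IsRegular R rs)
    (hker : RingHom.ker f = Ideal.ofList rs) : IsCIKer f := by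
  classical
  unfold IsCIKer
  rw [← ringKrullDim_add_length_eq_ringKrullDim_of_isRegular rs hreg,
    ← ringKrullDim_eq_of_ringEquiv (RingHom.quotientKerEquivOfSurjective hf), hker]
  gcongr
  have : Ideal.ofList rs = Submodule.span R (rs.toFinset : Set R) := by simp [Ideal.ofList, Ideal.span]
  rw [this]
  exact_mod_cast (Submodule.spanFinrank_span_le_ncard_of_finite (Finset.finite_toSet _)).trans
    ((Set.ncard_coe_finset _).trans_le (List.toFinset_card_le rs))

end Groth.Agent.H9CI
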