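import Groth.Agent.H9CI.RegLocal
import Groth.Prelude.Def_RegImm
import Mathlib.RingTheory.RegularLocalRing.Polynomial

/-!
# Independence of complete intersections over a field from the regular presentation
-/

set_option linter.style.haveILetI false

universe u

open IsLocalRing

namespace Groth.Agent.H9CI

variable {k : Type u} [Field k]

theorem isRegularLocalRing_mvPolynomial_localization {ι : Type u} [Finite ι] (p : Ideal (MvPolynomial ι k)) [p.IsPrime] :
    IsRegularLocalRing (Localization.AtPrime p) := inferInstance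

/-- A map onto the generators of an essentially finite type local algebra gives a surjection after localizing. -/
theorem localization_lift_surjective {R P : Type u} [CommRing R] [IsLocalRing R] [Algebra k R]
    [Algebra.EssFiniteType k R] [CommRing P] [Algebra k P] (ev : P →ₐ[k] R)
    (hs : (Algebra.EssFiniteType.finset k R : Set R) ⊆ Set.range ev) (p : Ideal P) [p.IsPrime]
    (hp : ∀ b, b ∉ p ↔ IsUnit (ev b)) :
    Function.Surjective (IsLocalization.lift (M := p.primeCompl) (S := Localization.AtPrime p)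
      (g := ev.toRingHom) fun b => (hp b.1).mp b.2) := by
  intro x
  obtain ⟨⟨a, b, hb⟩, hx⟩ := IsLocalization.surj (Algebra.EssFiniteType.submonoid k R) x
  have hle : Algebra.EssFiniteType.subalgebra k R ≤ ev.range := Algebra.adjoin_le fun z hz => hs hz
  obtain ⟨α, hα⟩ := hle a.2
  obtain ⟨β, hβ⟩ := hle b.2
  have hu : IsUnit (ev β) := by rw [show ev β = (b : R) from hβ]; exact hb
  refine ⟨IsLocalization.mk' _ α (⟨β, (hp β).mpr hu⟩ : p.primeCompl), ?_⟩
  rw [IsLocalization.lift_mk'_spec]
  show ev α = ev β * x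
  rw [show ev α = (a : R) from hα, show ev β = (b : R) from hβ, mul_comm]
  exact hx.symm

/-- Complete intersection kernels do not depend on the presentation by a regular local ring. -/
theorem isCIKer_iff_isCIKer {R₁ R₂ S : Type u} [CommRing R₁] [IsRegularLocalRing R₁] [Algebra k R₁]
    [Algebra.EssFiniteType k R₁] [CommRing R₂] [IsRegularLocalRing R₂] [Algebra k R₂]
    [Algebra.EssFiniteType k R₂] [CommRing S] [IsLocalRing S] [Algebra k S]
    (f₁ : R₁ →ₐ[k] S) (hf₁ : Function.Surjective f₁) (f₂ : R₂ →ₐ[k] S) (hf₂ : Function.Surjective f₂) :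
    IsCIKer f₁.toRingHom ↔ IsCIKer f₂.toRingHom := by
  classical
  let s₁ := Algebra.EssFiniteType.finset k R₁
  let s₂ := Algebra.EssFiniteType.finset k R₂
  choose l₁ hl₁ using hf₁
  choose l₂ hl₂ using hf₂
  let P := MvPolynomial (s₁ ⊕ s₂) k
  let ev₁ : P →ₐ[k] R₁ := MvPolynomial.aeval (Sum.elim (fun v => (v : R₁)) fun v => l₁ (f₂ v))
  let ev₂ : P →ₐ[k] R₂ := MvPolynomial.aeval (Sum.elim (fun v => l₂ (f₁ v)) fun v => (v : R₂))
  have hcomp : f₁.comp ev₁ = f₂.comp ev₂ := MvPolynomial.algHom_ext fun v => by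
    rcases v with v | v <;> simp [ev₁, ev₂, hl₁, hl₂]
  haveI hf₁loc : IsLocalHom f₁.toRingHom := IsLocalHom.of_surjective _ fun y => ⟨l₁ y, hl₁ y⟩
  haveI hf₂loc : IsLocalHom f₂.toRingHom := IsLocalHom.of_surjective _ fun y => ⟨l₂ y, hl₂ y⟩
  let p : Ideal P := (maximalIdeal S).comap (f₁.comp ev₁).toRingHom
  haveI : p.IsPrime := Ideal.IsPrime.comap _
  have hu₁ : ∀ b, b ∉ p ↔ IsUnit (ev₁ b) := fun b => by
    rw [Ideal.mem_comap, mem_maximalIdeal, mem_nonunits_iff, not_not]
    exact isUnit_map_iff f₁.toRingHom (ev₁ b)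
  have hu₂ : ∀ b, b ∉ p ↔ IsUnit (ev₂ b) := fun b => by
    rw [Ideal.mem_comap, mem_maximalIdeal, mem_nonunits_iff, not_not, hcomp]
    exact isUnit_map_iff f₂.toRingHom (ev₂ b)
  let π₁ : Localization.AtPrime p →+* R₁ := IsLocalization.lift (M := p.primeCompl) (g := ev₁.toRingHom)
    fun b => (hu₁ b.1).mp b.2
  let π₂ : Localization.AtPrime p →+* R₂ := IsLocalization.lift (M := p.primeCompl) (g := ev₂.toRingHom)
    fun b => (hu₂ b.1).mp b.2
  have h₁ : Function.Surjective π₁ := localization_lift_surjective ev₁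
    (fun z hz => ⟨MvPolynomial.X (Sum.inl ⟨z, hz⟩), MvPolynomial.aeval_X _ _⟩) p hu₁
  have h₂ : Function.Surjective π₂ := localization_lift_surjective ev₂
    (fun z hz => ⟨MvPolynomial.X (Sum.inr ⟨z, hz⟩), MvPolynomial.aeval_X _ _⟩) p hu₂
  have heq : f₁.toRingHom.comp π₁ = f₂.toRingHom.comp π₂ := by
    refine IsLocalization.ringHom_ext p.primeCompl ?_
    rw [RingHom.comp_assoc, RingHom.comp_assoc, IsLocalization.lift_comp, IsLocalization.lift_comp]
    exact RingHom.ext fun x => DFunLike.congr_fun hcomp x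
  rw [← isCIKer_comp_iff π₁ h₁ f₁.toRingHom (fun y => ⟨l₁ y, hl₁ y⟩), heq,
    isCIKer_comp_iff π₂ h₂ f₂.toRingHom fun y => ⟨l₂ y, hl₂ y⟩]

/-- Complete intersections over a field through any regular presentation. -/
theorem isCIOver_iff {R S : Type u} [CommRing R] [IsRegularLocalRing R] [Algebra k R]
    [Algebra.EssFiniteType k R] [CommRing S] [IsLocalRing S] [Algebra k S]
    (f : R →ₐ[k] S) (hf : Function.Surjective f) :
    Synt.IsCIOver k S ↔ IsCIKer f.toRingHom := by
  constructor
  · rintro ⟨R', _, _, _, _, rs, hrs, hreg, ⟨e⟩⟩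
    let f' : R' →ₐ[k] S := e.symm.toAlgHom.comp (Ideal.Quotient.mkₐ k (Ideal.ofList rs))
    have hf' : Function.Surjective f' := e.symm.surjective.comp Ideal.Quotient.mk_surjective
    refine (isCIKer_iff_isCIKer f hf f' hf').mpr (isCIKer_of_isRegular f'.toRingHom hf' rs hreg ?_)
    exact (RingHom.ker_comp_of_injective (Ideal.Quotient.mkₐ k (Ideal.ofList rs)).toRingHom
      (f := e.symm.toAlgHom.toRingHom) e.symm.injective).trans Ideal.mk_ker
  · intro h
    obtain ⟨rs, hrs, hreg, hker, -⟩ := exists_isRegular_of_isCIKer f.toRingHom hf h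
    exact ⟨R, inferInstance, inferInstance, inferInstance, inferInstance, rs, hrs, hreg,
      ⟨((Ideal.quotientKerAlgEquivOfSurjective hf).symm.trans (Ideal.quotientEquivAlgOfEq k hker))⟩⟩

end Groth.Agent.H9CI
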