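import Groth.Agent.H9CI.Presentation
import Groth.Agent.H29Slice.FibreReg
import Groth.Agent.H8Props.RelGCI

/-!
# Relative global complete intersections are transversally regular at every point
-/

set_option linter.style.haveILetI false

universe u

open IsLocalRing

namespace Groth.Agent.H9CI

variable {R : Type u} [CommRing R] (p : Ideal R) [p.IsPrime] {n : ℕ}

local notation "κ" => p.ResidueField
local notation "π" => MvPolynomial.map (σ := Fin n) (algebraMap R p.ResidueField)

/-- Denominators of polynomials over a residue field. -/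
theorem exists_smul_eq_map (z : MvPolynomial (Fin n) κ) :
    ∃ a ∉ p, ∃ y : MvPolynomial (Fin n) R, π (MvPolynomial.C a) * z = π y := by
  induction z using MvPolynomial.induction_on with
  | C c =>
    obtain ⟨x, y, hy, rfl⟩ := IsFractionRing.div_surjective (R ⧸ p) c
    obtain ⟨x, rfl⟩ := Ideal.Quotient.mk_surjective x
    obtain ⟨y, rfl⟩ := Ideal.Quotient.mk_surjective y
    have hy' : y ∉ p := fun h => nonZeroDivisors.ne_zero hy (Ideal.Quotient.eq_zero_iff_mem.mpr h)
    refine ⟨y, hy', MvPolynomial.C x, ?_⟩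
    rw [MvPolynomial.map_C, MvPolynomial.map_C, ← map_mul]
    congr 1
    show algebraMap R κ y * (algebraMap (R ⧸ p) κ (Ideal.Quotient.mk p x) /
      algebraMap (R ⧸ p) κ (Ideal.Quotient.mk p y)) = algebraMap R κ x
    rw [← Ideal.Quotient.algebraMap_eq, ← IsScalarTower.algebraMap_apply, ← IsScalarTower.algebraMap_apply,
      mul_div_cancel₀]
    exact fun h => hy' (Ideal.algebraMap_residueField_eq_zero.mp h)
  | add u v hu hv =>
    obtain ⟨a, ha, y, hy⟩ := hu
    obtain ⟨b, hb, w, hw⟩ := hv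
    refine ⟨a * b, fun h => (‹p.IsPrime›.mem_or_mem h).elim ha hb, MvPolynomial.C b * y + MvPolynomial.C a * w, ?_⟩
    simp only [map_add, map_mul, ← hy, ← hw]
    ring
  | mul_X u i hu =>
    obtain ⟨a, ha, y, hy⟩ := hu
    exact ⟨a, ha, y * MvPolynomial.X i, by rw [map_mul, ← hy, MvPolynomial.map_X, mul_assoc]⟩

/-- Membership in an extended ideal of the fibre, up to denominators. -/
theorem exists_C_mul_mem (J : Ideal (MvPolynomial (Fin n) R)) (y : MvPolynomial (Fin n) R) (h : π y ∈ J.map π) :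
    ∃ a ∉ p, MvPolynomial.C a * y ∈ J ⊔ p.map (algebraMap R (MvPolynomial (Fin n) R)) := by
  obtain ⟨a, ha, w, hw, e⟩ : ∃ a ∉ p, ∃ w ∈ J, π (MvPolynomial.C a) * π y = π w := by
    revert h
    generalize π y = z
    intro h
    refine Submodule.span_induction ?_ ⟨1, (‹p.IsPrime›).ne_top ∘ (Ideal.eq_top_iff_one _).mpr, 0, zero_mem _, by simp⟩
      ?_ ?_ h
    · rintro _ ⟨w, hw, rfl⟩
      exact ⟨1, (‹p.IsPrime›).ne_top ∘ (Ideal.eq_top_iff_one _).mpr, w, hw, by simp⟩
    · rintro u v _ _ ⟨a, ha, x, hx, ex⟩ ⟨b, hb, y, hy, ey⟩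
      refine ⟨a * b, fun h => (‹p.IsPrime›.mem_or_mem h).elim ha hb, MvPolynomial.C b * x + MvPolynomial.C a * y,
        add_mem (Ideal.mul_mem_left _ _ hx) (Ideal.mul_mem_left _ _ hy), ?_⟩
      simp only [map_add, map_mul, ← ex, ← ey]
      ring
    · rintro r u _ ⟨a, ha, x, hx, ex⟩
      obtain ⟨b, hb, r', er⟩ := exists_smul_eq_map p r
      refine ⟨b * a, fun h => (‹p.IsPrime›.mem_or_mem h).elim hb ha, r' * x, Ideal.mul_mem_left _ _ hx, ?_⟩
      simp only [map_mul, ← ex, ← er, smul_eq_mul]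
      ring
  refine ⟨a, ha, ?_⟩
  have hker : MvPolynomial.C a * y - w ∈ RingHom.ker π := by
    rw [RingHom.mem_ker, map_sub, map_mul, e, sub_self]
  rw [MvPolynomial.ker_map, Ideal.ker_algebraMap_residueField, ← MvPolynomial.algebraMap_eq] at hker
  have := add_mem (Ideal.mem_sup_left (T := p.map (algebraMap R (MvPolynomial (Fin n) R))) hw)
    (Ideal.mem_sup_right (S := J) hker)
  rwa [add_sub_cancel] at this

omit [p.IsPrime] in
/-- A prime of the polynomial ring over `p` contains `p`. -/
theorem map_le_of_under {q : Ideal (MvPolynomial (Fin n) R)} (h : q.comap (algebraMap R (MvPolynomial (Fin n) R)) = p) :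
    p.map (algebraMap R (MvPolynomial (Fin n) R)) ≤ q :=
  Ideal.map_le_iff_le_comap.mpr h.ge

/-- Primes over `p` come from the fibre. -/
theorem exists_prime_comap (q : Ideal (MvPolynomial (Fin n) R)) [q.IsPrime]
    (h : q.comap (algebraMap R (MvPolynomial (Fin n) R)) = p) :
    ∃ Q : Ideal (MvPolynomial (Fin n) κ), Q.IsPrime ∧ Q.comap π = q := by
  refine (Ideal.comap_map_eq_self_iff_of_isPrime q).mp (le_antisymm (fun y hy => ?_) Ideal.le_comap_map)
  obtain ⟨a, ha, hay⟩ := exists_C_mul_mem p q y hy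
  rw [sup_eq_left.mpr (map_le_of_under p h)] at hay
  exact (‹q.IsPrime›.mem_or_mem hay).resolve_left fun hC => ha (h ▸ hC)

variable {c : ℕ}

/-- On each fibre, the equations form a regular sequence at every point. -/
theorem isRegular_fibre_of_isRelGCI (F : Fin c → MvPolynomial (Fin n) R) (h : Synt.IsRelGCI R n c F)
    (Q : Ideal (MvPolynomial (Fin n) κ)) [Q.IsPrime] (hQ : ∀ i, π (F i) ∈ Q) :
    RingTheory.Sequence.IsRegular (Localization.AtPrime Q)
      (List.ofFn fun i => algebraMap (MvPolynomial (Fin n) κ) (Localization.AtPrime Q) (π (F i))) := by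
  let I : Ideal (MvPolynomial (Fin n) κ) := Ideal.span (Set.range fun i => π (F i))
  let S := MvPolynomial (Fin n) κ ⧸ I
  let φ : MvPolynomial (Fin n) κ →ₐ[κ] S := Ideal.Quotient.mkₐ κ I
  have hIQ : I ≤ Q := Ideal.span_le.mpr (by rintro _ ⟨i, rfl⟩; exact hQ i)
  haveI : Nontrivial S := Ideal.Quotient.nontrivial_iff.mpr (ne_top_of_le_ne_top (Ideal.IsPrime.ne_top ‹_›) hIQ)
  obtain ⟨g, hg⟩ := H8Props.RelGCI.fiber_presented F ⟨p, inferInstance⟩
  let e := RingEquiv.ofBijective g hg
  haveI : Nontrivial (p.Fiber (Synt.RelGCIRing R n c F)) := e.toEquiv.nontrivial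
  obtain ⟨hcn, hdim⟩ := h ⟨p, inferInstance⟩ inferInstance
  rw [ringKrullDim_eq_of_ringEquiv e] at hdim
  let q := Q.map (Ideal.Quotient.mk I)
  haveI : q.IsPrime := Ideal.map_isPrime_of_surjective Ideal.Quotient.mk_surjective (by rwa [Ideal.mk_ker])
  have hqQ : q.comap φ.toRingHom = Q := by
    show (Q.map (Ideal.Quotient.mk I)).comap (Ideal.Quotient.mk I) = Q
    rw [Ideal.comap_map_of_surjective' _ Ideal.Quotient.mk_surjective, Ideal.mk_ker, sup_eq_left.mpr hIQ]
  haveI : Algebra.FiniteType κ S := Algebra.FiniteType.of_surjective φ Ideal.Quotient.mk_surjective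
  haveI : IsNoetherianRing S := Algebra.FiniteType.isNoetherianRing κ S
  haveI : Algebra.FiniteType κ (S ⧸ q) := Algebra.FiniteType.trans (R := κ) (S := S) inferInstance inferInstance
  have h1 := height_comap_add φ Ideal.Quotient.mk_surjective q
  have h2 : (q.height : WithBot ℕ∞) + ringKrullDim (S ⧸ q) ≤ ((n - c : ℕ) : WithBot ℕ∞) := by
    rw [H8Props.FieldDim.height_add_dim_quotient_eq_iSup (k := κ) S ⟨q, inferInstance⟩]
    exact iSup_le fun P => (ringKrullDim_quotient_le _).trans hdim.le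
  obtain ⟨f, hf, hker⟩ := exists_localization_presentation φ Ideal.Quotient.mk_surjective q
  rw [show RingHom.ker φ.toRingHom = I from Ideal.mk_ker] at hker
  let L := Localization.AtPrime (q.comap φ.toRingHom)
  let r : Fin c → L := fun i => algebraMap (MvPolynomial (Fin n) κ) L (π (F i))
  have key : RingTheory.Sequence.IsRegular L (List.ofFn r) := by
    refine isRegular_of_dim_le r (fun i => ?_) ?_
    · rw [IsLocalization.AtPrime.to_map_mem_maximal_iff L (q.comap φ.toRingHom)]
      exact hqQ.ge (hQ i)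
    · have hspan : Ideal.span (Set.range r) = RingHom.ker f.toRingHom := by
        rw [hker, Ideal.map_span, ← Set.range_comp]; rfl
      rw [hspan, ringKrullDim_eq_of_ringEquiv (RingHom.quotientKerEquivOfSurjective hf),
        IsLocalization.AtPrime.ringKrullDim_eq_height q (Localization.AtPrime q),
        IsLocalization.AtPrime.ringKrullDim_eq_height (q.comap φ.toRingHom)]
      obtain ⟨d, hd, -⟩ := H8Props.FieldDim.exists_dim_trdeg κ (S ⧸ q)
      obtain ⟨b, hb⟩ : ∃ b : ℕ, q.height = b :=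
        ⟨_, (ENat.natCast_toNat (Ideal.height_ne_top (Ideal.IsPrime.ne_top inferInstance))).symm⟩
      obtain ⟨b', hb'⟩ : ∃ b' : ℕ, (q.comap φ.toRingHom).height = b' :=
        ⟨_, (ENat.natCast_toNat (Ideal.height_ne_top (Ideal.IsPrime.ne_top inferInstance))).symm⟩
      rw [hd, hb'] at h1
      rw [hd, hb] at h2
      rw [hb, hb']
      simp only [show ∀ x : ℕ, ((x : ℕ∞) : WithBot ℕ∞) = ((x : ℕ) : WithBot ℕ∞) from fun _ => rfl, ← Nat.cast_add,
        Nat.cast_le, Nat.cast_inj] at h1 h2 ⊢
      omega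
  have transfer : ∀ (Q' : Ideal (MvPolynomial (Fin n) κ)) [Q'.IsPrime], Q' = Q →
      RingTheory.Sequence.IsRegular (Localization.AtPrime Q')
        (List.ofFn fun i => algebraMap _ (Localization.AtPrime Q') (π (F i))) →
      RingTheory.Sequence.IsRegular (Localization.AtPrime Q)
        (List.ofFn fun i => algebraMap _ (Localization.AtPrime Q) (π (F i))) := fun Q' _ h h' => by subst h; exact h'
  exact transfer _ hqQ key

/-- The equations are regular on the fibre at every prime containing them. -/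
theorem regOnFibre_of_isRelGCI (F : Fin c → MvPolynomial (Fin n) R) (h : Synt.IsRelGCI R n c F)
    (q : Ideal (MvPolynomial (Fin n) R)) [q.IsPrime] (hq : ∀ i, F i ∈ q) :
    H29Slice.RegOnFibre (A := R) F q := by
  intro j a t ht hmem
  let p := q.comap (algebraMap R (MvPolynomial (Fin n) R))
  let κ' := p.ResidueField
  let ρ := MvPolynomial.map (σ := Fin n) (algebraMap R κ')
  obtain ⟨Q, hQp, hQ⟩ := exists_prime_comap p q rfl
  haveI := hQp
  let L := Localization.AtPrime Q
  let g := (algebraMap (MvPolynomial (Fin n) κ') L).comp ρ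
  have hreg := (isRegular_fibre_of_isRelGCI p F h Q fun i => hQ.ge (hq i)).toIsWeaklyRegular
  rw [RingTheory.Sequence.isWeaklyRegular_iff] at hreg
  have hj := hreg j (by simp)
  rw [List.getElem_ofFn, show (Ideal.ofList _ • (⊤ : Submodule L L)) = _ from Ideal.mul_top _,
    isSMulRegular_quotient_iff_mem_of_smul_mem] at hj
  let J := Ideal.span (F '' Set.Iio j) ⊔ p.map (algebraMap R (MvPolynomial (Fin n) R))
  have hJmap : J.map ρ = (Ideal.span (F '' Set.Iio j)).map ρ := by
    rw [Ideal.map_sup, sup_eq_left]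
    refine (Ideal.map_map _ _).trans_le (Ideal.map_le_iff_le_comap.mpr fun x hx => ?_)
    rw [Ideal.mem_comap, RingHom.comp_apply, MvPolynomial.algebraMap_eq, MvPolynomial.map_C,
      Ideal.algebraMap_residueField_eq_zero.mpr hx, map_zero]
    exact zero_mem _
  have htake : J.map g = Ideal.ofList ((List.ofFn fun i => algebraMap _ L (ρ (F i))).take j) := by
    rw [← Ideal.map_map, hJmap, Ideal.map_map, Ideal.map_span, Ideal.ofList]
    congr 1
    ext x
    simp only [Set.mem_image, Set.mem_Iio, Set.mem_setOf_eq, List.mem_take_iff_getElem, List.length_ofFn,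
      List.getElem_ofFn]
    constructor
    · rintro ⟨_, ⟨i, hi, rfl⟩, rfl⟩
      exact ⟨i, lt_min hi i.isLt, rfl⟩
    · rintro ⟨i, hi, rfl⟩
      exact ⟨_, ⟨⟨i, (lt_min_iff.mp hi).2⟩, (lt_min_iff.mp hi).1, rfl⟩, rfl⟩
  have hut : IsUnit (g t) := IsLocalization.map_units L (⟨ρ t, fun h' => ht (hQ ▸ h' : t ∈ q)⟩ : Q.primeCompl)
  have h1 : g (F j) * g a ∈ J.map g := by
    have := Ideal.mem_map_of_mem g hmem
    rw [map_mul, map_mul] at this
    exact (Ideal.unit_mul_mem_iff_mem _ hut).mp this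
  have h2 : g a ∈ J.map g := by
    rw [htake] at h1 ⊢
    exact hj _ h1
  rw [← Ideal.map_map] at h2
  obtain ⟨u, huQ, hu⟩ := (IsLocalization.algebraMap_mem_map_algebraMap_iff Q.primeCompl L _ _).mp h2
  obtain ⟨b, hb, u', hu'⟩ := exists_smul_eq_map p u
  have h3 : ρ (u' * a) ∈ J.map ρ := by
    rw [map_mul, ← hu', mul_assoc]
    exact Ideal.mul_mem_left _ _ hu
  obtain ⟨d, hd, hd'⟩ := exists_C_mul_mem p J (u' * a) h3
  rw [sup_eq_left.mpr le_sup_right, ← mul_assoc] at hd'
  refine ⟨MvPolynomial.C d * u', fun hmem' => ?_, hd'⟩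
  rcases ‹q.IsPrime›.mem_or_mem hmem' with h4 | h4
  · exact hd h4
  · rw [← hQ, Ideal.mem_comap] at h4
    rw [show ρ u' = ρ (MvPolynomial.C b) * u from hu'.symm] at h4
    rcases hQp.mem_or_mem h4 with h5 | h5
    · exact hb (show b ∈ p from (SetLike.ext_iff.mp hQ _).mp h5)
    · exact huQ h5

/-- Relative global complete intersections are transversally regular near every prime containing the equations. -/
theorem exists_transRegular (F : Fin c → MvPolynomial (Fin n) R) (h : Synt.IsRelGCI R n c F)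
    (q : PrimeSpectrum (MvPolynomial (Fin n) R)) (hq : ∀ i, F i ∈ q.asIdeal) :
    ∃ b ∉ q.asIdeal, ∀ (L : Type u) [CommRing L] [Algebra R L] [Algebra (MvPolynomial (Fin n) R) L]
      [IsScalarTower R (MvPolynomial (Fin n) R) L] [IsLocalization.Away b L],
      RegImm.IsTransRegularSeq R L ((List.ofFn F).map (algebraMap (MvPolynomial (Fin n) R) L)) :=
  H29Slice.exists_transReg_of_fibre (A := R) (MvPolynomial (Fin n) R) F q hq
    (regOnFibre_of_isRelGCI F h q.asIdeal hq)

end Groth.Agent.H9CI
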