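import Groth.Agent.H9CI.SmoothGraph
import Groth.Agent.H9CI.RelGCINhd

/-!
# Fibre dimensions of relative global complete intersections
-/

set_option linter.style.haveILetI false

universe u

open CategoryTheory AlgebraicGeometry TensorProduct

namespace Groth.Agent.H9CI

/-- The fibre dimension of a relative global complete intersection is constant. -/
theorem fibreDimAt_relGCI {R : Type u} [CommRing R] {n c : ℕ} (F : Fin c → MvPolynomial (Fin n) R)
    (hF : Synt.IsRelGCI R n c F) (x : Spec (CommRingCat.of (Synt.RelGCIRing R n c F))) :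
    FlatMor.fibreDimAt (Spec.map (CommRingCat.ofHom (algebraMap R (Synt.RelGCIRing R n c F)))) x =
      ((n - c : ℕ) : WithBot ℕ∞) := by
  let S := Synt.RelGCIRing R n c F
  let p : PrimeSpectrum R := PrimeSpectrum.comap (algebraMap R S) x
  let e := PrimeSpectrum.preimageEquivFiber R S p
  let Q := e ⟨x, rfl⟩
  have hQ : PrimeSpectrum.comap (Algebra.TensorProduct.includeRight : S →ₐ[R] p.asIdeal.Fiber S).toRingHom Q = x :=
    congrArg Subtype.val (e.symm_apply_apply ⟨x, rfl⟩)
  rw [← hQ]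
  refine (fibreDimAt_spec_eq_localDim (R := R) (A := S) (κ := p.asIdeal.ResidueField) Q).trans ?_
  haveI : Nontrivial (p.asIdeal.Fiber S) :=
    ⟨⟨0, 1, fun h => Q.isPrime.ne_top ((Ideal.eq_top_iff_one _).mpr (h ▸ Q.asIdeal.zero_mem))⟩⟩
  obtain ⟨hcn, hdim⟩ := hF p inferInstance
  haveI : Algebra.FiniteType p.asIdeal.ResidueField (p.asIdeal.Fiber S) := inferInstance
  refine (H1CAlg.localDim_spec_eq_iSup (k := p.asIdeal.ResidueField) (S := p.asIdeal.Fiber S) Q).trans
    (le_antisymm (iSup_le fun q => (ringKrullDim_quotient_le _).trans hdim.le) ?_)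
  obtain ⟨m, hm, hle⟩ := Ideal.exists_minimalPrimes_le (R := p.asIdeal.Fiber S) (I := ⊥) (J := Q.asIdeal) bot_le
  obtain ⟨ψ, hψ, hker, -⟩ := H9Synt.exists_presentation_baseChange p.asIdeal.ResidueField (S := S)
    (Ideal.Quotient.mkₐ R _) Ideal.Quotient.mk_surjective F Ideal.mk_ker
  exact (le_dim_quotient_minimalPrimes ψ hψ _ hker m hm).trans (le_iSup_of_le ⟨⟨m, hm.1.1⟩, hle⟩ le_rfl)

end Groth.Agent.H9CI
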