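import Groth.Agent.H9CI.Global
import Groth.Agent.H9CI.Nhd
import Groth.Agent.H02CA.SmoothRegular
import Groth.Agent.H8Props.FieldDimSmooth
import Mathlib.RingTheory.Smooth.StandardSmoothCotangent

/-!
# Flat maps between smooth algebras are syntomic
-/

set_option linter.style.haveILetI false

universe u

open CategoryTheory AlgebraicGeometry TensorProduct

namespace Groth.Agent.H9CI

/-- Over a field the fibre dimension is the local dimension. -/
theorem fibreDimAt_field {k : Type u} [Field k] {X : Scheme.{u}} (f : X ⟶ Spec (CommRingCat.of k)) (x : X) :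
    FlatMor.fibreDimAt f x = FlatMor.localDim X x := by
  haveI : Subsingleton (Spec (CommRingCat.of k)) := inferInstanceAs (Subsingleton (PrimeSpectrum k))
  let e : f.fiber (f x) ≃ₜ X := (f.fiberHomeo (f x)).trans
    ((Homeomorph.setCongr (s := f ⁻¹' {f x}) (t := Set.univ) (by
      ext y; simp only [Set.mem_preimage, Set.mem_singleton_iff, Set.mem_univ, iff_true]; exact Subsingleton.elim _ _)).trans
        (Homeomorph.Set.univ X))
  show FlatMor.localDim (f.fiber (f x)) (f.asFiber x) = _
  rw [localDim_homeomorph e (f.asFiber x)]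
  congr 1
  exact f.fiberι_asFiber x

/-- Fibre dimensions are local dimensions of base changes to fields. -/
theorem fibreDimAt_spec_eq_localDim {R A κ : Type u} [CommRing R] [CommRing A] [Algebra R A]
    [Algebra.FiniteType R A] [Field κ] [Algebra R κ] (Q : PrimeSpectrum (κ ⊗[R] A)) :
    FlatMor.fibreDimAt (Spec.map (CommRingCat.ofHom (algebraMap R A)))
        (PrimeSpectrum.comap (Algebra.TensorProduct.includeRight : A →ₐ[R] κ ⊗[R] A).toRingHom Q) =
      FlatMor.localDim (PrimeSpectrum (κ ⊗[R] A)) Q := by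
  let g' := Spec.map (CommRingCat.ofHom (Algebra.TensorProduct.includeRight.toRingHom : A →+* κ ⊗[R] A))
  let f' := Spec.map (CommRingCat.ofHom (algebraMap κ (κ ⊗[R] A)))
  have hc : IsPullback g' f' (Spec.map (CommRingCat.ofHom (algebraMap R A)))
      (Spec.map (CommRingCat.ofHom (algebraMap R κ))) := by
    refine (isPullback_SpecMap_of_isPushout _ _ _ _ ?_).flip
    exact CommRingCat.isPushout_tensorProduct R κ A
  haveI : LocallyOfFiniteType (Spec.map (CommRingCat.ofHom (algebraMap R A))) :=
    (HasRingHomProperty.Spec_iff (P := @LocallyOfFiniteType)).mpr (RingHom.finiteType_algebraMap.mpr inferInstance)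
  exact (H8Props.FieldDim.fibreDimAt_baseChange (Spec.map (CommRingCat.ofHom (algebraMap R A))) hc Q).symm.trans (fibreDimAt_field f' Q)

variable {R A B : Type u} [CommRing R] [CommRing A] [CommRing B] [Algebra R A] [Algebra R B] [Algebra A B]
  [IsScalarTower R A B]

/-- The diagonal ideal of a standard smooth algebra is generated by `d` elements modulo its square. -/
theorem exists_diagonal_generators (d : ℕ) [Nontrivial A] [Algebra.IsStandardSmoothOfRelativeDimension d R A] :
    ∃ δ : Fin d → A ⊗[R] A, (∀ i, δ i ∈ KaehlerDifferential.ideal R A) ∧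
      KaehlerDifferential.ideal R A ≤ Ideal.span (Set.range δ) ⊔ KaehlerDifferential.ideal R A ^ 2 := by
  let I := KaehlerDifferential.ideal R A
  haveI := Algebra.IsStandardSmoothOfRelativeDimension.isStandardSmooth d (R := R) (S := A)
  let b := Module.finBasisOfFinrankEq A Ω[A⁄R]
    (Module.finrank_eq_of_rank_eq (Algebra.IsStandardSmoothOfRelativeDimension.rank_kaehlerDifferential (R := R) (S := A) d))
  choose δ hδ using fun i => I.toCotangent_surjective (b i)
  refine ⟨fun i => δ i, fun i => (δ i).2, fun x hx => ?_⟩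
  have hmem : I.toCotangent ⟨x, hx⟩ ∈ Submodule.span A (Set.range b) := b.span_eq.ge trivial
  have hmem' := Submodule.span_subset_span A (A ⊗[R] A) (Set.range b) hmem
  rw [show Set.range b = I.toCotangent '' Set.range δ by
    rw [← Set.range_comp]; exact congrArg Set.range (funext fun i => (hδ i).symm)] at hmem'
  change I.toCotangent ⟨x, hx⟩ ∈ Submodule.span (A ⊗[R] A) (I.toCotangent '' Set.range δ) at hmem'
  rw [← Submodule.map_span] at hmem'
  obtain ⟨y, hy, hyx⟩ := hmem'
  have h2 := I.toCotangent_eq.mp hyx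
  refine Submodule.mem_sup.mpr ⟨(y : A ⊗[R] A), ?_, x - y, ?_, by ring⟩
  · have h3 := Submodule.mem_map_of_mem (f := Submodule.subtype I) hy
    rwa [Submodule.map_span, ← Set.range_comp] at h3
  · rw [← neg_sub]; exact neg_mem h2

/-- The kernel of the change of the base of a tensor product is the extension of the diagonal ideal. -/
theorem ker_mapOfCompatibleSMul_eq (κ : Type u) [CommRing κ] [Algebra A κ] [Algebra R κ] [IsScalarTower R A κ] :
    RingHom.ker (Algebra.TensorProduct.mapOfCompatibleSMul A R κ κ B).toRingHom =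
      (KaehlerDifferential.ideal R A).map
        (Algebra.TensorProduct.map (IsScalarTower.toAlgHom R A κ) (IsScalarTower.toAlgHom R A B)).toRingHom := by
  set ρ := (Algebra.TensorProduct.map (IsScalarTower.toAlgHom R A κ) (IsScalarTower.toAlgHom R A B)).toRingHom
  refine le_antisymm (fun x hx => ?_) ?_
  · have hx' : x ∈ (TensorProduct.mapOfCompatibleSMul A R A κ B).ker := hx
    rw [TensorProduct.AlgebraTensorModule.ker_mapOfCompatibleSMul] at hx'
    refine Submodule.span_induction ?_ (zero_mem _) (fun u v _ _ hu hv => add_mem hu hv) (fun a u _ hu => ?_) hx'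
    · rintro _ ⟨a, m, n, rfl⟩
      have : (a • m) ⊗ₜ[R] n - m ⊗ₜ[R] (a • n) = (m ⊗ₜ[R] n) * ρ (a ⊗ₜ[R] 1 - 1 ⊗ₜ[R] a) := by
        simp only [ρ, map_sub, AlgHom.toRingHom_eq_coe, RingHom.coe_coe, Algebra.TensorProduct.map_tmul, map_one,
          IsScalarTower.coe_toAlgHom', mul_sub, Algebra.TensorProduct.tmul_mul_tmul, mul_one]
        rw [Algebra.smul_def, Algebra.smul_def, mul_comm m, mul_comm n]
      rw [this]
      refine Ideal.mul_mem_left _ _ (Ideal.mem_map_of_mem ρ ?_)
      rw [← neg_sub]
      exact neg_mem (KaehlerDifferential.one_smul_sub_smul_one_mem_ideal R a)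
    · rw [Algebra.smul_def]
      exact Ideal.mul_mem_left _ _ hu
  · rw [← KaehlerDifferential.span_range_eq_ideal, Ideal.map_span, Ideal.span_le]
    rintro _ ⟨_, ⟨a, rfl⟩, rfl⟩
    show Algebra.TensorProduct.mapOfCompatibleSMul A R κ κ B (ρ ((1 : A) ⊗ₜ[R] a - a ⊗ₜ[R] (1 : A))) = 0
    simp only [ρ, map_sub, AlgHom.toRingHom_eq_coe, RingHom.coe_coe, Algebra.TensorProduct.map_tmul, map_one,
      IsScalarTower.coe_toAlgHom', Algebra.TensorProduct.mapOfCompatibleSMul_tmul]
    rw [Algebra.algebraMap_eq_smul_one, Algebra.algebraMap_eq_smul_one, TensorProduct.smul_tmul, sub_self]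

/-- A flat algebra map from a standard smooth algebra to a smooth algebra is syntomic. -/
theorem isSyntomic_of_flat_smooth (d : ℕ) [Algebra.IsStandardSmoothOfRelativeDimension d R A]
    [Algebra.Smooth R B] [Module.Flat A B] : Synt.IsSyntomic A B := by
  haveI : Algebra.IsStandardSmooth R A := Algebra.IsStandardSmoothOfRelativeDimension.isStandardSmooth d
  haveI : Algebra.FinitePresentation A B :=
    Algebra.FinitePresentation.of_restrict_scalars_finitePresentation R A B
  refine ⟨inferInstance, inferInstance, fun p => ?_⟩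
  let κ := p.asIdeal.ResidueField
  haveI : Nontrivial A := ⟨⟨0, 1, fun h => p.isPrime.ne_top ((Ideal.eq_top_iff_one _).mpr (h ▸ p.asIdeal.zero_mem))⟩⟩
  haveI : Algebra.FiniteType κ (p.asIdeal.Fiber B) := inferInstance
  refine isLCIOver_of_forall_maximal fun m hm => ?_
  let C := κ ⊗[R] B
  let η : C →ₐ[κ] p.asIdeal.Fiber B := Algebra.TensorProduct.mapOfCompatibleSMul A R κ κ B
  have hη : Function.Surjective η := Algebra.TensorProduct.mapOfCompatibleSMul_surjective A R κ κ B
  haveI : Algebra.Smooth κ C := inferInstance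
  haveI := H02CA.isRegularRing_of_smooth κ C
  let Q := m.comap η.toRingHom
  haveI : IsRegularLocalRing (Localization.AtPrime Q) := IsRegularRing.isRegularLocalRing_localization Q
  haveI : Algebra.EssFiniteType C (Localization.AtPrime Q) := .of_isLocalization _ Q.primeCompl
  haveI : Algebra.EssFiniteType κ (Localization.AtPrime Q) := Algebra.EssFiniteType.comp κ C _
  haveI : IsNoetherianRing C := Algebra.FiniteType.isNoetherianRing κ C
  let L := Localization.AtPrime Q
  let γ := algebraMap C L
  let f : L →ₐ[κ] Localization.AtPrime m := Localization.localAlgHom Q m η rfl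
  have hT : Submonoid.map η.toRingHom Q.primeCompl = m.primeCompl := by
    ext x
    constructor
    · rintro ⟨a, ha, rfl⟩; exact ha
    · intro hx
      obtain ⟨a, rfl⟩ := hη x
      exact ⟨a, hx, rfl⟩
  have hf : Function.Surjective f := fun y => by
    obtain ⟨b, s, rfl⟩ := IsLocalization.exists_mk'_eq m.primeCompl y
    obtain ⟨a, rfl⟩ := hη b
    obtain ⟨t, ht⟩ := hη s
    exact ⟨IsLocalization.mk' _ a (⟨t, fun h => s.2 (ht ▸ h)⟩ : Q.primeCompl), by
      show Localization.localRingHom Q m η.toRingHom rfl _ = _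
      rw [Localization.localRingHom_mk']
      congr 1
      exact Subtype.ext ht⟩
  have hker : RingHom.ker f.toRingHom = (RingHom.ker η.toRingHom).map γ :=
    IsLocalization.ker_map (S := L) (Localization.AtPrime m) η.toRingHom hT
  rw [isCIOver_iff f hf, IsCIKer, hker]
  -- the number of equations
  let I := KaehlerDifferential.ideal R A
  let ρ := (Algebra.TensorProduct.map (IsScalarTower.toAlgHom R A κ) (IsScalarTower.toAlgHom R A B)).toRingHom
  obtain ⟨δ, hδI, hIδ⟩ := exists_diagonal_generators (R := R) (A := A) d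
  set J := (RingHom.ker η.toRingHom).map γ with hJdef
  have hJ : J = I.map (γ.comp ρ) := by
    rw [hJdef, ← Ideal.map_map]
    exact congrArg (Ideal.map γ) (ker_mapOfCompatibleSMul_eq (R := R) (A := A) (B := B) κ)
  have hJle : J ≤ IsLocalRing.maximalIdeal L := by
    refine Ideal.map_le_iff_le_comap.mpr fun z hz => ?_
    rw [Ideal.mem_comap, IsLocalization.AtPrime.to_map_mem_maximal_iff L Q]
    show η z ∈ m
    rw [show η z = 0 from hz]
    exact m.zero_mem
  let K := Ideal.span (Set.range fun i => γ (ρ (δ i)))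
  have hgen : J ≤ K := by
    refine Submodule.le_of_le_smul_of_le_jacobson_bot ((IsNoetherian.noetherian _))
      (IsLocalRing.maximalIdeal_le_jacobson _) ?_
    calc J = I.map (γ.comp ρ) := hJ
      _ ≤ (Ideal.span (Set.range δ) ⊔ I ^ 2).map (γ.comp ρ) := Ideal.map_mono hIδ
      _ = K ⊔ J * J := by
          rw [Ideal.map_sup, Ideal.map_span, ← Set.range_comp, Ideal.map_pow, ← hJ, pow_two]; rfl
      _ ≤ K ⊔ IsLocalRing.maximalIdeal L • J := sup_le_sup_left (Ideal.mul_mono_left hJle) _
  have hspan : J.spanFinrank ≤ d := by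
    have hKJ : K ≤ J := Ideal.span_le.mpr (Set.range_subset_iff.mpr fun i => hJ ▸ Ideal.mem_map_of_mem _ (hδI i))
    rw [le_antisymm hgen hKJ]
    refine (Submodule.spanFinrank_span_le_ncard_of_finite (Set.finite_range _)).trans ?_
    rw [← Set.image_univ]
    exact (Set.ncard_image_le).trans (by simp)
  -- dimensions
  haveI : Q.IsMaximal := Ideal.comap_isMaximal_of_surjective η.toRingHom hη
  haveI : Algebra.FiniteType κ C := inferInstance
  letI := Ideal.Quotient.field m
  letI := Ideal.Quotient.field Q
  have h1 := H1CAlg.localDim_spec_eq_height_add (k := κ) (S := p.asIdeal.Fiber B) ⟨m, inferInstance⟩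
  have h2 := H1CAlg.localDim_spec_eq_height_add (k := κ) (S := C) ⟨Q, inferInstance⟩
  rw [ringKrullDim_eq_zero_of_field, add_zero] at h1 h2
  rw [IsLocalization.AtPrime.ringKrullDim_eq_height m, IsLocalization.AtPrime.ringKrullDim_eq_height Q]
  change FlatMor.localDim _ _ = (m.height : WithBot ℕ∞) at h1
  change FlatMor.localDim _ _ = (Q.height : WithBot ℕ∞) at h2
  rw [← h1, ← h2, ← fibreDimAt_spec_eq_localDim (R := A) (A := B) (κ := κ) ⟨m, inferInstance⟩,
    ← fibreDimAt_spec_eq_localDim (R := R) (A := B) (κ := κ) ⟨Q, inferInstance⟩]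
  let φ := Spec.map (CommRingCat.ofHom (algebraMap A B))
  let ψ := Spec.map (CommRingCat.ofHom (algebraMap R A))
  haveI : SmoothOfRelativeDimension d ψ := (HasRingHomProperty.Spec_iff (P := @SmoothOfRelativeDimension d)).mpr
    (RingHom.locally_of RingHom.isStandardSmoothOfRelativeDimension_respectsIso _
      (RingHom.isStandardSmoothOfRelativeDimension_algebraMap (n := d).mpr inferInstance))
  haveI : LocallyOfFiniteType φ := (HasRingHomProperty.Spec_iff (P := @LocallyOfFiniteType)).mpr
    (RingHom.finiteType_algebraMap.mpr inferInstance)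
  haveI : LocallyOfFiniteType ψ := (HasRingHomProperty.Spec_iff (P := @LocallyOfFiniteType)).mpr
    (RingHom.finiteType_algebraMap.mpr inferInstance)
  haveI : Flat φ := (HasRingHomProperty.Spec_iff (P := @Flat)).mpr (RingHom.flat_algebraMap_iff.mpr inferInstance)
  set x : Spec (CommRingCat.of B) :=
    PrimeSpectrum.comap (Algebra.TensorProduct.includeRight : B →ₐ[A] p.asIdeal.Fiber B).toRingHom ⟨m, inferInstance⟩
  have hx : (PrimeSpectrum.comap (Algebra.TensorProduct.includeRight : B →ₐ[R] C).toRingHom
      ⟨Q, inferInstance⟩ : PrimeSpectrum B) = x := PrimeSpectrum.ext <| by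
    ext b
    show η ((1 : κ) ⊗ₜ[R] b) ∈ m ↔ (1 : κ) ⊗ₜ[A] b ∈ m
    rfl
  have hcomp : φ ≫ ψ = Spec.map (CommRingCat.ofHom (algebraMap R B)) := by
    rw [← Spec.map_comp, ← CommRingCat.ofHom_comp, ← IsScalarTower.algebraMap_eq]
  have h3 := (H8Props.FieldDim.fibreDimAt_comp_le φ ψ x).2 (Flat.stalkMap φ x)
  rw [hcomp, H8Props.FieldDim.fibreDimAt_of_smoothOfRelativeDimension ψ d] at h3
  rw [hx, h3]
  gcongr

end Groth.Agent.H9CI
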