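import Groth.Agent.H13CI.Syntomic
import Groth.Agent.H9CI.SmoothGraph

/-!
# Syntomic algebras compose; fibre dimensions along surjections of bases
-/

set_option linter.style.haveILetI false

universe u

open CategoryTheory AlgebraicGeometry TensorProduct

namespace Groth.Agent.H9CI

/-- A composition of syntomic algebras is syntomic. -/
theorem isSyntomic_comp {R S T : Type u} [CommRing R] [CommRing S] [CommRing T] [Algebra R S] [Algebra S T]
    [Algebra R T] [IsScalarTower R S T] (h₁ : Synt.IsSyntomic R S) (h₂ : Synt.IsSyntomic S T) :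
    Synt.IsSyntomic R T := by
  rw [← syntomicHom_algebraMap] at h₁ h₂ ⊢
  rw [IsScalarTower.algebraMap_eq R S T]
  have h₁' := (H13CI.isSyntomicMor_iff_isCIMorphism _).mp
    ((isSyntomicMor_Spec_iff (CommRingCat.ofHom (algebraMap R S))).mpr h₁)
  have h₂' := (H13CI.isSyntomicMor_iff_isCIMorphism _).mp
    ((isSyntomicMor_Spec_iff (CommRingCat.ofHom (algebraMap S T))).mpr h₂)
  obtain ⟨hf₂, hp₂, hc₂⟩ := h₂'
  obtain ⟨hf₁, hp₁, hc₁⟩ := h₁'
  haveI := hf₁
  haveI := hf₂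
  haveI := hp₁
  haveI := hp₂
  refine (isSyntomicMor_Spec_iff (CommRingCat.ofHom ((algebraMap S T).comp (algebraMap R S)))).mp
    ((H13CI.isSyntomicMor_iff_isCIMorphism _).mpr ?_)
  rw [CommRingCat.ofHom_comp, Spec.map_comp]
  exact ⟨inferInstance, inferInstance, fun x => H13CI.isCI_fiberStalk_comp _ _ x (hc₂ x) (hc₁ _)⟩

/-- Fibre dimensions over a closed subscheme of the base. -/
theorem fibreDimAt_of_surjective {R A R₀ A₀ : Type u} [CommRing R] [CommRing A] [CommRing R₀] [CommRing A₀]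
    [Algebra R A] [Algebra R R₀] [Algebra R₀ A₀] [Algebra R A₀] [IsScalarTower R R₀ A₀] [Algebra.FiniteType R A]
    (hR : Function.Surjective (algebraMap R R₀)) (π : A →ₐ[R] A₀) (hπ : Function.Surjective π)
    (hker : RingHom.ker π.toRingHom ≤ (RingHom.ker (algebraMap R R₀)).map (algebraMap R A))
    (q : Spec (CommRingCat.of A₀)) :
    FlatMor.fibreDimAt (Spec.map (CommRingCat.ofHom (algebraMap R A))) (PrimeSpectrum.comap π.toRingHom q) =
      FlatMor.fibreDimAt (Spec.map (CommRingCat.ofHom (algebraMap R₀ A₀))) q := by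
  let π' : R₀ ⊗[R] A →ₐ[R₀] A₀ := Algebra.TensorProduct.lift (Algebra.ofId R₀ A₀) π fun _ _ => Commute.all _ _
  have hone : ∀ z : R₀ ⊗[R] A, ∃ a, z = (1 : R₀) ⊗ₜ[R] a := fun z => by
    induction z using TensorProduct.induction_on with
    | zero => exact ⟨0, (TensorProduct.tmul_zero _ _).symm⟩
    | tmul x a =>
      obtain ⟨r, rfl⟩ := hR x
      exact ⟨r • a, by rw [Algebra.algebraMap_eq_smul_one, TensorProduct.smul_tmul]⟩
    | add y z hy hz =>
      obtain ⟨a, rfl⟩ := hy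
      obtain ⟨b, rfl⟩ := hz
      exact ⟨a + b, (TensorProduct.tmul_add _ _ _).symm⟩
  have hπ' : ∀ a, π' ((1 : R₀) ⊗ₜ[R] a) = π a := fun a => by simp [π']
  have hbij : Function.Bijective π' := by
    refine ⟨(injective_iff_map_eq_zero _).mpr fun z hz => ?_, fun y => ?_⟩
    · obtain ⟨a, rfl⟩ := hone z
      rw [hπ'] at hz
      have hle : (RingHom.ker (algebraMap R R₀)).map (algebraMap R A) ≤
          RingHom.ker (Algebra.TensorProduct.includeRight : A →ₐ[R] R₀ ⊗[R] A).toRingHom := by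
        refine Ideal.map_le_iff_le_comap.mpr fun r hr => ?_
        show (1 : R₀) ⊗ₜ[R] algebraMap R A r = 0
        rw [Algebra.algebraMap_eq_smul_one, ← TensorProduct.smul_tmul, ← Algebra.algebraMap_eq_smul_one,
          show algebraMap R R₀ r = 0 from hr, TensorProduct.zero_tmul]
      exact hle (hker hz)
    · obtain ⟨a, rfl⟩ := hπ y
      exact ⟨_, hπ' a⟩
  let e := AlgEquiv.ofBijective π' hbij
  haveI : Algebra.FiniteType R₀ A₀ := Algebra.FiniteType.equiv inferInstance e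
  let p := (q : PrimeSpectrum A₀).asIdeal.comap (algebraMap R₀ A₀)
  let κ := p.ResidueField
  obtain ⟨Q, hQp, hQ⟩ := H9CI.exists_fibre_prime (R := R₀) (q : PrimeSpectrum A₀).asIdeal
  haveI := hQp
  let eκ : κ ⊗[R] A ≃ₐ[κ] κ ⊗[R₀] A₀ :=
    (Algebra.TensorProduct.cancelBaseChange R R₀ κ κ A).symm.trans (Algebra.TensorProduct.congr AlgEquiv.refl e)
  have heκ : ∀ a : A, eκ ((1 : κ) ⊗ₜ[R] a) = (1 : κ) ⊗ₜ[R₀] π a := fun a => by
    show Algebra.TensorProduct.congr AlgEquiv.refl e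
      ((Algebra.TensorProduct.cancelBaseChange R R₀ κ κ A).symm ((1 : κ) ⊗ₜ[R] a)) = _
    rw [Algebra.TensorProduct.cancelBaseChange_symm_tmul, Algebra.TensorProduct.congr_apply,
      Algebra.TensorProduct.map_tmul]
    exact congrArg ((1 : κ) ⊗ₜ[R₀] ·) (hπ' a)
  let Q₀ : PrimeSpectrum (κ ⊗[R₀] A₀) := ⟨Q, hQp⟩
  let Q₁ : PrimeSpectrum (κ ⊗[R] A) := PrimeSpectrum.comap eκ.toAlgHom.toRingHom Q₀
  have h1 : PrimeSpectrum.comap (Algebra.TensorProduct.includeRight : A₀ →ₐ[R₀] κ ⊗[R₀] A₀).toRingHom Q₀ = q :=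
    PrimeSpectrum.ext hQ
  have h2 : PrimeSpectrum.comap π.toRingHom q =
      PrimeSpectrum.comap (Algebra.TensorProduct.includeRight : A →ₐ[R] κ ⊗[R] A).toRingHom Q₁ := by
    refine PrimeSpectrum.ext (Ideal.ext fun a => ?_)
    show π a ∈ (q : PrimeSpectrum A₀).asIdeal ↔ eκ ((1 : κ) ⊗ₜ[R] a) ∈ Q
    rw [heκ]
    exact (SetLike.ext_iff.mp hQ (π a)).symm
  refine Eq.trans ?_ (congrArg (FlatMor.fibreDimAt (Spec.map (CommRingCat.ofHom (algebraMap R₀ A₀)))) h1)
  rw [h2]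
  refine (fibreDimAt_spec_eq_localDim (R := R) (A := A) (κ := κ) Q₁).trans
    (Eq.trans ?_ (fibreDimAt_spec_eq_localDim (R := R₀) (A := A₀) (κ := κ) Q₀).symm)
  exact (localDim_homeomorph (PrimeSpectrum.homeomorphOfRingEquiv eκ.toRingEquiv.symm) Q₀).symm

end Groth.Agent.H9CI
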