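import Groth.Agent.H9CI.NhdPresentation
import Groth.Agent.H9CI.RelGCIProps
import Mathlib.RingTheory.Localization.BaseChange

/-!
# The conormal module near a point with equations
-/

set_option linter.style.haveILetI false

universe u

open MvPolynomial TensorProduct

namespace Groth.Agent.H9CI

variable {R : Type u} [CommRing R] {n c : ℕ}

/-- Coefficients of a linear relation of equations in the square of the ideal vanish on the principal open. -/
theorem exists_pow_mul_mem_of_sum_mem_sq (F : Fin c → MvPolynomial (Fin n) R) (G : MvPolynomial (Fin n) R)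
    (hG : Synt.IsRelGCI R (n + 1) (c + 1) (awayEqs F G)) (A : Fin c → MvPolynomial (Fin n) R)
    (hA : ∑ i, A i * F i ∈ Ideal.span (Set.range F) * Ideal.span (Set.range F)) (i : Fin c) :
    ∃ m : ℕ, G ^ m * A i ∈ Ideal.span (Set.range F) := by
  let K := Ideal.span (Set.range F)
  let J := Ideal.span (Set.range (awayEqs F G))
  have hKJ : K.map (rename Fin.castSucc : MvPolynomial (Fin n) R →ₐ[R] _).toRingHom ≤ J := by
    rw [Ideal.map_span, Ideal.span_le]
    rintro _ ⟨_, ⟨j, rfl⟩, rfl⟩
    exact Ideal.subset_span ⟨j.castSucc, by simp [awayEqs]⟩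
  let a : Fin (c + 1) → MvPolynomial (Fin (n + 1)) R := Fin.snoc (fun j => rename Fin.castSucc (A j)) 0
  have ha : ∑ j, a j * awayEqs F G j ∈ J * J := by
    rw [Fin.sum_univ_castSucc]
    simp only [a, awayEqs, Fin.snoc_castSucc, Fin.snoc_last, zero_mul, add_zero, ← map_mul, ← map_sum]
    have h1 := Ideal.mem_map_of_mem (rename Fin.castSucc : MvPolynomial (Fin n) R →ₐ[R] _).toRingHom hA
    rw [Ideal.map_mul] at h1
    exact Ideal.mul_mono hKJ hKJ h1
  have h1 := mem_span_of_sum_mem_sq (awayEqs F G) hG a ha i.castSucc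
  simp only [a, Fin.snoc_castSucc] at h1
  let T := Localization.Away (Ideal.Quotient.mk K G)
  let π : MvPolynomial (Fin n) R →ₐ[R] T := (IsScalarTower.toAlgHom R _ T).comp (Ideal.Quotient.mkₐ R K)
  let ev : MvPolynomial (Fin (n + 1)) R →ₐ[R] T :=
    aeval (Fin.snoc (fun i => π (X i)) (IsLocalization.Away.invSelf (Ideal.Quotient.mk K G)))
  have hev : ∀ z, ev (rename Fin.castSucc z) = π z := fun z => by
    refine (DFunLike.congr_fun (show ev.comp (rename Fin.castSucc) = π from MvPolynomial.algHom_ext fun i => ?_) z)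
    simp [ev]
  have hJ : J ≤ RingHom.ker ev := by
    rw [Ideal.span_le]
    rintro _ ⟨j, rfl⟩
    induction j using Fin.lastCases with
    | last =>
      show ev (awayEqs F G (Fin.last c)) = 0
      rw [awayEqs, Fin.snoc_last, map_sub, map_mul, hev, map_one, sub_eq_zero]
      simp only [ev, aeval_X, Fin.snoc_last]
      exact IsLocalization.Away.mul_invSelf (Ideal.Quotient.mk K G)
    | cast j =>
      show ev (awayEqs F G j.castSucc) = 0
      rw [awayEqs, Fin.snoc_castSucc, hev]
      show algebraMap _ T (Ideal.Quotient.mk K (F j)) = 0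
      rw [Ideal.Quotient.eq_zero_iff_mem.mpr (Ideal.subset_span (Set.mem_range_self j) : F j ∈ K), map_zero]
  have h2 : algebraMap _ T (Ideal.Quotient.mk K (A i)) = 0 := by
    have := hJ h1
    rw [RingHom.mem_ker, hev] at this
    exact this
  obtain ⟨⟨_, m, rfl⟩, hm⟩ := (IsLocalization.map_eq_zero_iff (Submonoid.powers (Ideal.Quotient.mk K G)) T _).mp h2
  refine ⟨m, Ideal.Quotient.eq_zero_iff_mem.mp ?_⟩
  rw [map_mul, map_pow]
  exact hm

/-- The conormal module is free on a principal open with equations. -/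
theorem free_tensor_cotangent {I : Ideal (MvPolynomial (Fin n) R)} (F : Fin c → MvPolynomial (Fin n) R)
    (hFI : ∀ i, F i ∈ I) (G : MvPolynomial (Fin n) R) (hGI : ∀ z ∈ I, G * z ∈ Ideal.span (Set.range F))
    (hG : Synt.IsRelGCI R (n + 1) (c + 1) (awayEqs F G)) :
    Module.Free (Localization.Away (Ideal.Quotient.mk I G))
      (Localization.Away (Ideal.Quotient.mk I G) ⊗[MvPolynomial (Fin n) R ⧸ I] I.Cotangent) := by
  classical
  let S := MvPolynomial (Fin n) R ⧸ I
  let g : S := Ideal.Quotient.mk I G
  let K := Ideal.span (Set.range F)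
  let L := Localization.Away g
  let v : Fin c → LocalizedModule (Submonoid.powers g) I.Cotangent := fun i =>
    LocalizedModule.mk (I.toCotangent ⟨F i, hFI i⟩) 1
  have hsmul : ∀ (z : MvPolynomial (Fin n) R) (x : I.Cotangent), Ideal.Quotient.mk I z • x = z • x :=
    fun z x => algebraMap_smul S z x
  have hI2 : ∀ z ∈ I * I, G * G * z ∈ K * K := fun z hz => by
    refine Submodule.mul_induction_on hz (fun x hx y hy => ?_) fun x y hx hy => ?_
    · rw [mul_mul_mul_comm]
      exact Ideal.mul_mem_mul (hGI x hx) (hGI y hy)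
    · rw [mul_add]; exact add_mem hx hy
  have hli : LinearIndependent L v := by
    rw [Fintype.linearIndependent_iff]
    intro q hq i
    obtain ⟨⟨_, k, rfl⟩, hk⟩ := IsLocalization.exist_integer_multiples_of_finite (Submonoid.powers g) q
    choose a ha using hk
    have h1 : LocalizedModule.mk (∑ j, a j • I.toCotangent ⟨F j, hFI j⟩) (1 : Submonoid.powers g) = 0 := by
      have h0 : ∑ j, algebraMap S L (a j) • v j = 0 := by
        rw [Finset.sum_congr rfl fun j _ => by rw [ha j, smul_assoc], ← Finset.smul_sum, hq, smul_zero]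
      rw [← h0]
      simp only [← LocalizedModule.mkLinearMap_apply, map_sum, map_smul, v, algebraMap_smul]
    obtain ⟨⟨_, m, rfl⟩, hm⟩ := LocalizedModule.mk_eq.mp (h1.trans (LocalizedModule.zero_mk 1).symm)
    simp only [smul_zero, one_smul, Submonoid.smul_def] at hm
    choose A hA using fun j => Ideal.Quotient.mk_surjective (a j)
    have h2 : G ^ m * ∑ j, A j * F j ∈ I * I := by
      have h3 : I.toCotangent ⟨G ^ m * ∑ j, A j * F j, I.mul_mem_left _ (I.sum_mem fun j _ => I.mul_mem_left _ (hFI j))⟩ = 0 := by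
        rw [show (⟨G ^ m * ∑ j, A j * F j, _⟩ : I) = G ^ m • ∑ j, A j • (⟨F j, hFI j⟩ : I) from Subtype.ext (by simp),
          map_smul, map_sum, ← hsmul, map_pow, ← hm]
        congr 1
        exact Finset.sum_congr rfl fun j _ => by rw [map_smul, ← hsmul, hA]
      rw [← pow_two]
      exact (Ideal.toCotangent_eq_zero I _).mp h3
    obtain ⟨l, hl⟩ := exists_pow_mul_mem_of_sum_mem_sq F G hG (fun j => G * G * G ^ m * A j)
      (by rw [show ∑ j, G * G * G ^ m * A j * F j = G * G * (G ^ m * ∑ j, A j * F j) by
            simp only [Finset.mul_sum]; exact Finset.sum_congr rfl fun j _ => by ring]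
          exact hI2 _ h2) i
    have hz : g ^ (l + 2 + m) * a i = 0 := by
      rw [← hA i, ← map_pow, ← map_mul, Ideal.Quotient.eq_zero_iff_mem]
      refine Ideal.span_le.mpr (Set.range_subset_iff.mpr hFI) ?_
      rw [show G ^ (l + 2 + m) * A i = G ^ l * (G * G * G ^ m * A i) by ring]
      exact hl
    have hu : IsUnit (algebraMap S L g) := IsLocalization.Away.algebraMap_isUnit g
    have h4 : algebraMap S L (a i) = 0 := by
      refine (hu.pow (l + 2 + m)).mul_right_eq_zero.mp ?_
      rw [← map_pow, ← map_mul, hz, map_zero]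
    rw [ha i, Algebra.smul_def, map_pow] at h4
    exact (hu.pow k).mul_right_eq_zero.mp h4
  have hsp : ⊤ ≤ Submodule.span L (Set.range v) := by
    rintro z -
    induction z using LocalizedModule.induction_on with
    | _ x s =>
      obtain ⟨⟨y, hy⟩, rfl⟩ := I.toCotangent_surjective x
      obtain ⟨b, hb⟩ := Ideal.mem_span_range_iff_exists_fun.mp (hGI y hy)
      have h1 : g • LocalizedModule.mk (I.toCotangent ⟨y, hy⟩) (1 : Submonoid.powers g) ∈
          Submodule.span L (Set.range v) := by
        have h2 : g • I.toCotangent ⟨y, hy⟩ = ∑ j, Ideal.Quotient.mk I (b j) • I.toCotangent ⟨F j, hFI j⟩ := by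
          simp only [g, hsmul, ← map_smul, ← map_sum]
          exact congrArg _ (Subtype.ext (by simp [hb]))
        rw [← LocalizedModule.mkLinearMap_apply, ← map_smul, h2, map_sum]
        refine Submodule.sum_mem _ fun j _ => ?_
        rw [map_smul, ← algebraMap_smul L (Ideal.Quotient.mk I (b j))]
        exact Submodule.smul_mem _ _ (Submodule.subset_span ⟨j, rfl⟩)
      obtain ⟨_, k, rfl⟩ := s
      have hmk : LocalizedModule.mk (I.toCotangent ⟨y, hy⟩) (⟨g ^ k, k, rfl⟩ : Submonoid.powers g) =
          Localization.mk 1 (⟨g ^ (k + 1), k + 1, rfl⟩ : Submonoid.powers g) •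
            (g • LocalizedModule.mk (I.toCotangent ⟨y, hy⟩) (1 : Submonoid.powers g)) := by
        rw [LocalizedModule.smul'_mk, LocalizedModule.mk_smul_mk, LocalizedModule.mk_eq]
        exact ⟨1, by simp [pow_succ, mul_smul, Submonoid.smul_def]⟩
      rw [hmk]
      exact Submodule.smul_mem _ _ h1
  haveI : Module.Free L (LocalizedModule (Submonoid.powers g) I.Cotangent) :=
    Module.Free.of_basis (Module.Basis.mk hli hsp)
  exact Module.Free.of_equiv (LocalizedModule.equivTensorProduct (Submonoid.powers g) I.Cotangent)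

end Groth.Agent.H9CI
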