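import Groth.Agent.H9CI.Cover
import Groth.Agent.H9Synt.Basic
import Groth.Agent.H8Props.FieldDimFormula
import Mathlib.RingTheory.Extension.Presentation.Basic
import Mathlib.RingTheory.KrullDimension.Polynomial

/-!
# Complete intersections of finite type over a field
-/

set_option linter.style.haveILetI false

universe u

open IsLocalRing

namespace Groth.Agent.H9CI

variable {k : Type u} [Field k]

/-- Isomorphisms preserve complete intersections. -/
theorem isCIOver_of_algEquiv {S S' : Type u} [CommRing S] [IsLocalRing S] [CommRing S'] [IsLocalRing S']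
    [Algebra k S] [Algebra k S'] (e : S ≃ₐ[k] S') (h : Synt.IsCIOver k S) : Synt.IsCIOver k S' := by
  obtain ⟨R, _, _, _, hR, rs, hrs, hreg, ⟨f⟩⟩ := h
  exact ⟨R, inferInstance, inferInstance, inferInstance, hR, rs, hrs, hreg, ⟨e.symm.trans f⟩⟩

/-- Dimension is bounded by that of all quotients by primes. -/
theorem ringKrullDim_le_of_forall {A : Type u} [CommRing A] {N : WithBot ℕ∞}
    (h : ∀ p : PrimeSpectrum A, ringKrullDim (A ⧸ p.asIdeal) ≤ N) : ringKrullDim A ≤ N := by
  refine iSup_le fun l => le_trans ?_ (h l.head)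
  rw [ringKrullDim_quotient]
  let l' : LTSeries (PrimeSpectrum.zeroLocus (l.head.asIdeal : Set A)) :=
    LTSeries.mk l.length (fun i => ⟨l i, (l.monotone (Fin.zero_le i) : l.head ≤ l i)⟩) fun i j hij => l.strictMono hij
  exact Order.LTSeries.length_le_krullDim l'

/-- A presentation with variables and relations indexed by finite sets gives a global complete intersection. -/
theorem isGlobalCI_of_presentation {T : Type u} {ι σ : Type*} [CommRing T] [Algebra k T] [Finite ι] [Finite σ]
    (P : Algebra.Presentation k T ι σ) {N : ℕ} (hN : Nat.card ι = N + Nat.card σ) (hdim : ringKrullDim T = N) :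
    Synt.IsGlobalCI k T := by
  let P' := P.reindex (Finite.equivFin ι).symm (Finite.equivFin σ).symm
  refine Or.inr ⟨_, _, by omega, MvPolynomial.aeval P'.val, P'.relation, P'.aeval_val_surjective, ?_, ?_⟩
  · exact (P'.toGenerators.ker_eq_ker_aeval_val.symm.trans P'.span_range_relation_eq_ker.symm)
  · rw [hdim, show Nat.card ι - Nat.card σ = N from by omega]

variable {n : ℕ} {S : Type u} [CommRing S] [Algebra k S]

section

variable (φ : MvPolynomial (Fin n) k →ₐ[k] S) (hφ : Function.Surjective φ)
include hφ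

/-- Primes upstairs: height plus coheight is the number of variables. -/
theorem height_comap_add (q : Ideal S) [q.IsPrime] :
    ((q.comap φ.toRingHom).height : WithBot ℕ∞) + ringKrullDim (S ⧸ q) = (n : WithBot ℕ∞) := by
  have h := H8Props.FieldDim.height_add_dim_quotient k (MvPolynomial (Fin n) k) (q.comap φ.toRingHom)
  rw [MvPolynomial.ringKrullDim_of_isNoetherianRing, ringKrullDim_eq_zero_of_field, zero_add,
    Nat.card_eq_fintype_card, Fintype.card_fin] at h
  rw [← h]
  congr 1
  exact (ringKrullDim_eq_of_ringEquiv (RingEquiv.ofBijective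
    (Ideal.quotientMap q φ.toRingHom le_rfl)
    ⟨Ideal.quotientMap_injective, Ideal.quotientMap_surjective hφ⟩)).symm

/-- The local complete intersection criterion in a polynomial presentation. -/
theorem isCIOver_localization_iff (q : Ideal S) [q.IsPrime] :
    Synt.IsCIOver k (Localization.AtPrime q) ↔
      (q.height : WithBot ℕ∞) + ((((RingHom.ker φ.toRingHom).map
        (algebraMap (MvPolynomial (Fin n) k) (Localization.AtPrime (q.comap φ.toRingHom)))).spanFinrank : ℕ) : WithBot ℕ∞) ≤
      ((q.comap φ.toRingHom).height : WithBot ℕ∞) := by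
  let p := q.comap φ.toRingHom
  let f : Localization.AtPrime p →ₐ[k] Localization.AtPrime q := Localization.localAlgHom p q φ rfl
  have hT : Submonoid.map φ.toRingHom p.primeCompl = q.primeCompl := by
    ext x
    constructor
    · rintro ⟨a, ha, rfl⟩; exact ha
    · intro hx
      obtain ⟨a, rfl⟩ := hφ x
      exact ⟨a, hx, rfl⟩
  have hf : Function.Surjective f := fun y => by
    obtain ⟨b, s, rfl⟩ := IsLocalization.exists_mk'_eq q.primeCompl y
    obtain ⟨a, rfl⟩ := hφ b
    obtain ⟨t, ht⟩ := hφ s
    exact ⟨IsLocalization.mk' _ a (⟨t, fun h => s.2 (ht ▸ h)⟩ : p.primeCompl), by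
      show Localization.localRingHom p q φ.toRingHom rfl _ = _
      rw [Localization.localRingHom_mk']
      congr 1
      exact Subtype.ext ht⟩
  haveI : Algebra.EssFiniteType k (Localization.AtPrime p) :=
    haveI : Algebra.EssFiniteType (MvPolynomial (Fin n) k) (Localization.AtPrime p) := .of_isLocalization _ p.primeCompl
    Algebra.EssFiniteType.comp k (MvPolynomial (Fin n) k) _
  have hker : RingHom.ker f.toRingHom = (RingHom.ker φ.toRingHom).map (algebraMap _ (Localization.AtPrime p)) :=
    IsLocalization.ker_map (S := Localization.AtPrime p) (Localization.AtPrime q) φ.toRingHom hT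
  rw [isCIOver_iff f hf, IsCIKer, hker, IsLocalization.AtPrime.ringKrullDim_eq_height q,
    IsLocalization.AtPrime.ringKrullDim_eq_height p]

/-- Global complete intersections are complete intersections at every prime. -/
theorem isCIOver_of_presentation {c : ℕ} (r : Fin c → MvPolynomial (Fin n) k) (hc : c ≤ n)
    (hker : RingHom.ker φ.toRingHom = Ideal.span (Set.range r)) (hdim : ringKrullDim S ≤ ((n - c : ℕ) : WithBot ℕ∞))
    (q : Ideal S) [q.IsPrime] : Synt.IsCIOver k (Localization.AtPrime q) := by
  classical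
  haveI : Algebra.FiniteType k S := Algebra.FiniteType.of_surjective φ hφ
  rw [isCIOver_localization_iff φ hφ q]
  have h1 := height_comap_add φ hφ q
  have h2 : (q.height : WithBot ℕ∞) + ringKrullDim (S ⧸ q) ≤ ((n - c : ℕ) : WithBot ℕ∞) := by
    rw [H8Props.FieldDim.height_add_dim_quotient_eq_iSup (k := k) S ⟨q, inferInstance⟩]
    exact iSup_le fun p => (ringKrullDim_quotient_le _).trans hdim
  have h3 : ((RingHom.ker φ.toRingHom).map
      (algebraMap (MvPolynomial (Fin n) k) (Localization.AtPrime (q.comap φ.toRingHom)))).spanFinrank ≤ c := by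
    rw [hker, Ideal.map_span]
    exact (Submodule.spanFinrank_span_le_ncard_of_finite ((Set.finite_range r).image _)).trans
      ((Set.ncard_image_le (Set.finite_range r)).trans (by
        rw [← Set.image_univ]; exact (Set.ncard_image_le).trans (by simp)))
  haveI : IsNoetherianRing S := Algebra.FiniteType.isNoetherianRing k S
  haveI : Algebra.FiniteType k (S ⧸ q) := Algebra.FiniteType.trans (R := k) (S := S) inferInstance inferInstance
  obtain ⟨a, ha, -⟩ := H8Props.FieldDim.exists_dim_trdeg k (S ⧸ q)
  obtain ⟨b, hb⟩ : ∃ b : ℕ, q.height = b := ⟨_, (ENat.coe_toNat (Ideal.height_ne_top (Ideal.IsPrime.ne_top ‹_›))).symm⟩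
  obtain ⟨b', hb'⟩ : ∃ b' : ℕ, (q.comap φ.toRingHom).height = b' :=
    ⟨_, (ENat.coe_toNat (Ideal.height_ne_top (Ideal.IsPrime.ne_top inferInstance))).symm⟩
  rw [ha, hb'] at h1
  rw [ha, hb] at h2
  rw [hb, hb']
  simp only [show ∀ x : ℕ, ((x : ℕ∞) : WithBot ℕ∞) = ((x : ℕ) : WithBot ℕ∞) from fun _ => rfl, ← Nat.cast_add, Nat.cast_le, Nat.cast_inj] at h1 h2 ⊢
  omega

/-- Inverting an element killing the excess relations. -/
theorem exists_presentation_away {c : ℕ} (r : Fin c → MvPolynomial (Fin n) k)
    (hr : ∀ i, r i ∈ RingHom.ker φ.toRingHom) (G : MvPolynomial (Fin n) k)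
    (hG : ∀ z ∈ RingHom.ker φ.toRingHom, ∃ m : ℕ, G ^ m * z ∈ Ideal.span (Set.range r)) :
    Nonempty (Algebra.Presentation k (Localization.Away (φ G)) (Unit ⊕ Fin n) (Unit ⊕ Fin c)) := by
  let S' := MvPolynomial (Fin n) k ⧸ Ideal.span (Set.range r)
  let π : S' →ₐ[k] S := Ideal.Quotient.liftₐ _ φ fun z hz =>
    (Ideal.span_le.mpr (by rintro _ ⟨i, rfl⟩; exact hr i) : _ ≤ RingHom.ker φ.toRingHom) hz
  have hπmk : ∀ z, π (Ideal.Quotient.mk _ z) = φ z := fun z => rfl
  let T := Localization.Away (φ G)
  letI : Algebra S' T := ((algebraMap S T).comp π.toRingHom).toAlgebra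
  haveI : IsScalarTower k S' T := IsScalarTower.of_algebraMap_eq (R := k) (S := S') (A := T) fun x => by
    show _ = algebraMap S T (π (algebraMap k S' x))
    rw [π.commutes, ← IsScalarTower.algebraMap_apply]
  haveI : IsLocalization.Away (Ideal.Quotient.mk (Ideal.span (Set.range r)) G) T := by
    refine IsLocalization.Away.mk _ ?_ (fun t => ?_) (fun a b hab => ?_)
    · exact IsLocalization.Away.algebraMap_isUnit (S := T) (φ G)
    · obtain ⟨m, a, ha⟩ := IsLocalization.Away.surj (φ G) t
      obtain ⟨a, rfl⟩ := hφ a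
      exact ⟨m, Ideal.Quotient.mk _ a, ha⟩
    · obtain ⟨a, rfl⟩ := Ideal.Quotient.mk_surjective a
      obtain ⟨b, rfl⟩ := Ideal.Quotient.mk_surjective b
      obtain ⟨m, hm⟩ := IsLocalization.Away.exists_of_eq (S := T) (φ G) hab
      have hmem : G ^ m * (a - b) ∈ RingHom.ker φ.toRingHom := by
        show φ (G ^ m * (a - b)) = 0
        rw [map_mul, map_pow, map_sub, mul_sub, sub_eq_zero]
        exact hm
      obtain ⟨l, hl⟩ := hG _ hmem
      refine ⟨l + m, ?_⟩
      rw [← map_pow, ← map_mul, ← map_mul, Ideal.Quotient.eq, ← mul_sub, pow_add, mul_assoc]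
      exact hl
  exact ⟨(Algebra.Presentation.localizationAway T (Ideal.Quotient.mk (Ideal.span (Set.range r)) G)).comp
    (Algebra.Presentation.naive (v := r))⟩

/-- A complete intersection at a prime has a global complete intersection neighbourhood. -/
theorem exists_isGlobalCI_away_of_isCIOver (q : Ideal S) [q.IsPrime]
    (h : Synt.IsCIOver k (Localization.AtPrime q)) : ∃ g ∉ q, Synt.IsGlobalCI k (Localization.Away g) := by
  classical
  haveI : Algebra.FiniteType k S := Algebra.FiniteType.of_surjective φ hφ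
  haveI : IsNoetherianRing S := Algebra.FiniteType.isNoetherianRing k S
  rw [isCIOver_localization_iff φ hφ q] at h
  let p := q.comap φ.toRingHom
  let L := Localization.AtPrime p
  let I := RingHom.ker φ.toRingHom
  set J := I.map (algebraMap (MvPolynomial (Fin n) k) L) with hJ
  -- generators of the local kernel with numerators in the kernel
  obtain ⟨y, hy⟩ := H4Depth.exists_fun_fin_span_eq (I := J)
  choose w hw using fun i => (IsLocalization.mem_map_algebraMap_iff p.primeCompl L).mp
    (hy ▸ Ideal.subset_span ⟨i, rfl⟩ : y i ∈ J)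
  let r : Fin _ → MvPolynomial (Fin n) k := fun i => (w i).1
  have hrI : ∀ i, r i ∈ I := fun i => (w i).1.2
  have hJr : J = (Ideal.span (Set.range r)).map (algebraMap _ L) := by
    refine le_antisymm ?_ (Ideal.map_mono (Ideal.span_le.mpr (by rintro _ ⟨i, rfl⟩; exact hrI i)))
    refine hy.ge.trans (Ideal.span_le.mpr ?_)
    rintro _ ⟨i, rfl⟩
    have hu := IsLocalization.map_units L (w i).2
    obtain ⟨v, hv⟩ := hu
    have : y i = algebraMap _ L (r i) * ↑v⁻¹ := by
      rw [Units.eq_mul_inv_iff_mul_eq, hv]; exact hw i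
    rw [SetLike.mem_coe, this]
    exact Ideal.mul_mem_right _ _ (Ideal.mem_map_of_mem _ (Ideal.subset_span ⟨i, rfl⟩))
  obtain ⟨Z, hZ⟩ := (IsNoetherian.noetherian I : I.FG)
  have hkill : ∀ z : Z, ∃ m, m ∉ p ∧ m * (z : MvPolynomial (Fin n) k) ∈ Ideal.span (Set.range r) := fun z =>
    (IsLocalization.algebraMap_mem_map_algebraMap_iff p.primeCompl L _ _).mp
      (hJr.le (Ideal.mem_map_of_mem _ (hZ ▸ Submodule.subset_span z.2)))
  choose m hm hmz using hkill
  have hfin : (minimalPrimes S).Finite := minimalPrimes.finite_of_isNoetherianRing S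
  have hsep : ∀ P : {P : Ideal S // P ∈ hfin.toFinset ∧ ¬ P ≤ q}, ∃ a ∈ P.1, a ∉ q := fun P =>
    SetLike.not_le_iff_exists.mp P.2.2
  choose a haP haq using hsep
  haveI : Fintype {P : Ideal S // P ∈ hfin.toFinset ∧ ¬ P ≤ q} :=
    Fintype.subtype (hfin.toFinset.filter fun P => ¬ P ≤ q) fun P => Finset.mem_filter
  obtain ⟨G₂, hG₂⟩ := hφ (∏ P, a P)
  let G := (∏ z, m z) * G₂
  have hGq : φ G ∉ q := by
    intro hmem
    rw [map_mul, map_prod, hG₂] at hmem
    rcases (‹q.IsPrime›).mem_or_mem hmem with h | h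
    · obtain ⟨z, -, hz⟩ := (Ideal.IsPrime.prod_mem_iff).mp h
      exact hm z hz
    · obtain ⟨P, -, hP⟩ := (Ideal.IsPrime.prod_mem_iff).mp h
      exact haq P hP
  have hG : ∀ z ∈ I, ∃ e : ℕ, G ^ e * z ∈ Ideal.span (Set.range r) := by
    intro z hz
    refine ⟨1, ?_⟩
    rw [pow_one]
    rw [← hZ] at hz
    refine Submodule.span_induction (fun x hx => ?_) ?_ (fun x y _ _ hx hy => ?_) (fun c x _ hx => ?_) hz
    · show (∏ z, m z) * G₂ * x ∈ _
      rw [← Finset.mul_prod_erase _ _ (Finset.mem_univ (⟨x, hx⟩ : Z)),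
        show m ⟨x, hx⟩ * (∏ z ∈ Finset.univ.erase ⟨x, hx⟩, m z) * G₂ * x =
          ((∏ z ∈ Finset.univ.erase ⟨x, hx⟩, m z) * G₂) * (m ⟨x, hx⟩ * x) by ring]
      exact Ideal.mul_mem_left _ _ (hmz ⟨x, hx⟩)
    · rw [mul_zero]; exact zero_mem _
    · rw [mul_add]; exact add_mem hx hy
    · rw [smul_eq_mul, mul_left_comm]; exact Ideal.mul_mem_left _ _ hx
  obtain ⟨P⟩ := exists_presentation_away φ hφ r hrI G hG
  refine ⟨φ G, hGq, ?_⟩
  -- dimensions
  have h1 := height_comap_add φ hφ q
  haveI : Algebra.FiniteType k (S ⧸ q) := Algebra.FiniteType.trans (R := k) (S := S) inferInstance inferInstance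
  obtain ⟨d, hd, -⟩ := H8Props.FieldDim.exists_dim_trdeg k (S ⧸ q)
  obtain ⟨b, hb⟩ : ∃ b : ℕ, q.height = b := ⟨_, (ENat.coe_toNat (Ideal.height_ne_top (Ideal.IsPrime.ne_top ‹_›))).symm⟩
  obtain ⟨b', hb'⟩ : ∃ b' : ℕ, p.height = b' :=
    ⟨_, (ENat.coe_toNat (Ideal.height_ne_top (Ideal.IsPrime.ne_top inferInstance))).symm⟩
  have hsup := H8Props.FieldDim.height_add_dim_quotient_eq_iSup (k := k) S ⟨q, inferInstance⟩
  let f : L →ₐ[k] Localization.AtPrime q := Localization.localAlgHom p q φ rfl
  -- the number of relations is exactly the codimension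
  have hKrull : b' ≤ b + J.spanFinrank := by
    have hgen := (IsNoetherian.noetherian J).generators_ncard
    have hfin' := (IsNoetherian.noetherian J).finite_generators
    have hle : J ≤ maximalIdeal L := by
      refine Ideal.map_le_iff_le_comap.mpr fun z hz => ?_
      rw [Ideal.mem_comap, IsLocalization.AtPrime.to_map_mem_maximal_iff L p]
      show φ z ∈ q
      rw [show φ z = 0 from hz]
      exact q.zero_mem
    have hk := ringKrullDim_le_ringKrullDim_quotient_add_card (s := hfin'.toFinset) (R := L) (by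
      rw [IsLocalRing.ringJacobson_eq_maximalIdeal, Set.Finite.coe_toFinset]
      exact fun z hz => hle ((Submodule.span_generators J).le (Submodule.subset_span hz)))
    rw [Set.Finite.coe_toFinset, show Ideal.span (Submodule.generators J) = J from Submodule.span_generators J,
      ← Set.ncard_eq_toFinset_card _ hfin', hgen, IsLocalization.AtPrime.ringKrullDim_eq_height p, hb'] at hk
    have hdimq : ringKrullDim (L ⧸ J) = (b : WithBot ℕ∞) := by
      have hT : Submonoid.map φ.toRingHom p.primeCompl = q.primeCompl := by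
        ext x
        constructor
        · rintro ⟨a, ha, rfl⟩; exact ha
        · intro hx
          obtain ⟨a, rfl⟩ := hφ x
          exact ⟨a, hx, rfl⟩
      have hf : Function.Surjective f.toRingHom := fun y => by
        obtain ⟨b, s, rfl⟩ := IsLocalization.exists_mk'_eq q.primeCompl y
        obtain ⟨a, rfl⟩ := hφ b
        obtain ⟨t, ht⟩ := hφ s
        exact ⟨IsLocalization.mk' _ a (⟨t, fun h => s.2 (ht ▸ h)⟩ : p.primeCompl), by
          show Localization.localRingHom p q φ.toRingHom rfl _ = _
          rw [Localization.localRingHom_mk']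
          congr 1
          exact Subtype.ext ht⟩
      have hker : RingHom.ker f.toRingHom = J :=
        IsLocalization.ker_map (S := L) (Localization.AtPrime q) φ.toRingHom hT
      let e : L ⧸ J ≃+* Localization.AtPrime q :=
        (Ideal.quotEquivOfEq hker.symm).trans (RingHom.quotientKerEquivOfSurjective hf)
      rw [ringKrullDim_eq_of_ringEquiv e, IsLocalization.AtPrime.ringKrullDim_eq_height q, hb]
      rfl
    rw [hdimq] at hk
    exact_mod_cast hk
  rw [hb, hb'] at h
  rw [hd, hb'] at h1
  rw [hb, hd] at hsup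
  norm_cast at h h1
  have hN : n = b + d + J.spanFinrank := by omega
  refine isGlobalCI_of_presentation P (N := b + d) (by simp only [Nat.card_eq_fintype_card, Fintype.card_sum, Fintype.card_unit, Fintype.card_fin]; omega) ?_
  haveI : Algebra.FiniteType S (Localization.Away (φ G)) := IsLocalization.finiteType_of_monoid_fg (Submonoid.powers (φ G)) _
  refine le_antisymm (ringKrullDim_le_of_forall fun Q => ?_) ?_
  · rw [H8Props.FieldDim.dim_quotient_localization_away k S (Localization.Away (φ G)) (φ G) Q.asIdeal]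
    let q₀ := Q.asIdeal.comap (algebraMap S (Localization.Away (φ G)))
    haveI : q₀.IsPrime := Ideal.IsPrime.comap _
    obtain ⟨P₀, hP₀, hle⟩ := Ideal.exists_minimalPrimes_le (I := ⊥) (J := q₀) bot_le
    have hgq₀ : φ G ∉ q₀ := fun h => Q.isPrime.ne_top (Ideal.eq_top_of_isUnit_mem _ h
      (IsLocalization.Away.algebraMap_isUnit (φ G)))
    have hP₀q : P₀ ≤ q := by
      by_contra hnle
      refine hgq₀ (hle ?_)
      rw [map_mul, hG₂]
      exact Ideal.mul_mem_left _ _ (Ideal.prod_mem P₀ (i := ⟨P₀, hfin.mem_toFinset.mpr hP₀, hnle⟩) (Finset.mem_univ _) (haP ⟨P₀, hfin.mem_toFinset.mpr hP₀, hnle⟩))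
    refine (ringKrullDim_le_of_surjective (Ideal.Quotient.factor hle) (Ideal.Quotient.factor_surjective _)).trans ?_
    rw [Nat.cast_add, show ((b : ℕ) : WithBot ℕ∞) = ((b : ℕ∞) : WithBot ℕ∞) from rfl, hsup]
    exact le_iSup_of_le (⟨⟨P₀, hP₀.1.1⟩, hP₀q⟩ : {x : PrimeSpectrum S // x ≤ ⟨q, inferInstance⟩}) le_rfl
  · rw [Nat.cast_add, show ((b : ℕ) : WithBot ℕ∞) = ((b : ℕ∞) : WithBot ℕ∞) from rfl, hsup]
    refine iSup_le fun P₁ => ?_
    have hdisj : Disjoint (Submonoid.powers (φ G) : Set S) (P₁.1.asIdeal : Set S) := by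
      rw [Set.disjoint_left]
      rintro _ ⟨e, rfl⟩ he
      exact hGq (P₁.2 (P₁.1.isPrime.mem_of_pow_mem e he))
    haveI := IsLocalization.isPrime_of_isPrime_disjoint (Submonoid.powers (φ G)) (Localization.Away (φ G))
      P₁.1.asIdeal P₁.1.isPrime hdisj
    have h3 := H8Props.FieldDim.dim_quotient_localization_away k S (Localization.Away (φ G)) (φ G)
      (P₁.1.asIdeal.map (algebraMap S (Localization.Away (φ G))))
    have h4 := IsLocalization.under_map_of_isPrime_disjoint (Submonoid.powers (φ G)) (Localization.Away (φ G))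
      P₁.1.isPrime hdisj
    change Ideal.comap _ _ = _ at h4
    rw [h4] at h3
    rw [← h3]
    exact ringKrullDim_quotient_le _

end

/-- Local complete intersections are complete intersections at every prime. -/
theorem isCIOver_of_isLCIOver (h : Synt.IsLCIOver k S) (q : Ideal S) [q.IsPrime] :
    Synt.IsCIOver k (Localization.AtPrime q) := by
  obtain ⟨g, hg, hG⟩ := h.2 ⟨q, inferInstance⟩
  let T := Localization.Away g
  have hdisj : Disjoint (Submonoid.powers g : Set S) (q : Set S) := by
    rw [Set.disjoint_left]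
    rintro _ ⟨e, rfl⟩ he
    exact hg (‹q.IsPrime›.mem_of_pow_mem e he)
  haveI := IsLocalization.isPrime_of_isPrime_disjoint (Submonoid.powers g) T q ‹_› hdisj
  have hcomap := IsLocalization.under_map_of_isPrime_disjoint (Submonoid.powers g) T ‹q.IsPrime› hdisj
  change Ideal.comap _ _ = _ at hcomap
  have hCI : Synt.IsCIOver k (Localization.AtPrime (q.map (algebraMap S T))) := by
    rcases hG with hsub | ⟨n, c, hc, φ, r, hφ, hker, hdim⟩
    · exact absurd (Subsingleton.elim (1 : T) 0)
        (fun h1 => (‹(q.map (algebraMap S T)).IsPrime›).ne_top ((Ideal.eq_top_iff_one _).mpr (h1 ▸ zero_mem _)))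
    · exact isCIOver_of_presentation φ hφ r hc hker hdim.le _
  haveI := IsLocalization.isLocalization_isLocalization_atPrime_isLocalization (M := Submonoid.powers g)
    (Localization.AtPrime (q.map (algebraMap S T))) (q.map (algebraMap S T))
  have e : Localization.AtPrime (q.map (algebraMap S T)) ≃ₐ[S] Localization.AtPrime q := by
    have : IsLocalization.AtPrime (Localization.AtPrime (q.map (algebraMap S T))) q := by
      simpa only [hcomap] using IsLocalization.isLocalization_isLocalization_atPrime_isLocalization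
        (M := Submonoid.powers g) (Localization.AtPrime (q.map (algebraMap S T))) (q.map (algebraMap S T))
    exact IsLocalization.algEquiv q.primeCompl _ _
  exact isCIOver_of_algEquiv (e.restrictScalars k) hCI

end Groth.Agent.H9CI
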