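import Groth.Agent.H9CI.Nhd

/-!
# Equations near a prime in a given presentation
-/

set_option linter.style.haveILetI false

universe u

open CategoryTheory AlgebraicGeometry MvPolynomial TopologicalSpace TensorProduct

namespace Groth.Agent.H9CI

variable {R : Type u} [CommRing R] (p : Ideal R) [p.IsPrime] {n : ℕ} {T : Type u} [CommRing T] [Algebra R T]

/-- In a given presentation: equations near a prime at which the algebra is flat with complete intersection fibre. -/
theorem exists_equations_nhd (φ : MvPolynomial (Fin n) R →ₐ[R] T) (hφ : Function.Surjective φ)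
    (hfg : (RingHom.ker φ.toRingHom).FG) (q : Ideal T) [q.IsPrime]
    (hqp : q.comap (algebraMap R T) = p) (Q : Ideal (p.Fiber T)) [Q.IsPrime]
    (hQ : Q.comap (Algebra.TensorProduct.includeRight : T →ₐ[R] p.Fiber T).toRingHom = q)
    [Module.Flat R (Localization.AtPrime q)] (hCI : Synt.IsCIOver p.ResidueField (Localization.AtPrime Q)) :
    ∃ (c : ℕ) (F : Fin c → MvPolynomial (Fin n) R) (h : MvPolynomial (Fin n) R),
      h ∉ q.comap φ.toRingHom ∧ (∀ i, F i ∈ RingHom.ker φ.toRingHom) ∧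
      (∀ z ∈ RingHom.ker φ.toRingHom, h * z ∈ Ideal.span (Set.range F)) ∧
      Synt.IsRelGCI R (n + 1) (c + 1) (awayEqs F h) := by
  classical
  set I := RingHom.ker φ.toRingHom with hIdef
  obtain ⟨m, F₀, hF₀⟩ := Submodule.fg_iff_exists_fin_generating_family.mp hfg
  obtain ⟨ψ, hψ, hψker, hψX⟩ := H9Synt.exists_presentation_baseChange p.ResidueField φ hφ F₀ hF₀.symm
  set π := MvPolynomial.map (σ := Fin n) (algebraMap R p.ResidueField)
  have hψπ : ∀ z, ψ (π z) = (1 : p.ResidueField) ⊗ₜ[R] φ z := fun z => by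
    induction z using MvPolynomial.induction_on with
    | C a =>
      rw [MvPolynomial.map_C, ← MvPolynomial.algebraMap_eq, ← MvPolynomial.algebraMap_eq, ψ.commutes, φ.commutes,
        ← IsScalarTower.algebraMap_apply]
      exact ((Algebra.TensorProduct.includeRight : T →ₐ[R] p.Fiber T).commutes a).symm
    | add a b ha hb => rw [map_add, map_add, map_add, ha, hb, TensorProduct.tmul_add]
    | mul_X a i ha =>
      rw [map_mul, map_mul, MvPolynomial.map_X, ha, hψX, Algebra.TensorProduct.tmul_mul_tmul, one_mul, map_mul]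
  set P' := Q.comap ψ.toRingHom with hP'def
  have hP : P'.comap π = q.comap φ.toRingHom := by
    ext z
    rw [← hQ]
    show ψ (π z) ∈ Q ↔ (1 : p.ResidueField) ⊗ₜ[R] φ z ∈ Q
    rw [hψπ]
  have hkerI : RingHom.ker ψ.toRingHom = I.map π := by
    rw [hψker, ← (hF₀ : Ideal.span (Set.range F₀) = I), Ideal.map_span, ← Set.range_comp]
    rfl
  let L := Localization.AtPrime P'
  let γ := algebraMap (MvPolynomial (Fin n) p.ResidueField) L
  set J := (RingHom.ker ψ.toRingHom).map γ with hJ
  -- the number of equations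
  have hci := spanFinrank_add_height_eq ψ hψ Q hCI
  change ((J.spanFinrank : ℕ) : ℕ∞) + Q.height = P'.height at hci
  set c := J.spanFinrank with hc
  have hdimP := height_comap_add ψ hψ Q
  haveI : Algebra.FiniteType R T := Algebra.FiniteType.of_surjective φ hφ
  haveI : Algebra.FiniteType p.ResidueField (p.Fiber T) := inferInstance
  haveI : Algebra.FiniteType p.ResidueField (p.Fiber T ⧸ Q) :=
    Algebra.FiniteType.trans (R := p.ResidueField) (S := p.Fiber T) inferInstance inferInstance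
  obtain ⟨d, hd, -⟩ := H8Props.FieldDim.exists_dim_trdeg p.ResidueField (p.Fiber T ⧸ Q)
  haveI : IsNoetherianRing (p.Fiber T) := Algebra.FiniteType.isNoetherianRing p.ResidueField _
  obtain ⟨b, hb⟩ : ∃ b : ℕ, Q.height = b := ⟨_, (ENat.natCast_toNat (Ideal.height_ne_top (Ideal.IsPrime.ne_top ‹_›))).symm⟩
  obtain ⟨b', hb'⟩ : ∃ b' : ℕ, P'.height = b' :=
    ⟨_, (ENat.natCast_toNat (Ideal.height_ne_top (Ideal.IsPrime.ne_top inferInstance))).symm⟩
  rw [hb, hb'] at hci
  rw [hd, ← hP'def, hb'] at hdimP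
  norm_cast at hci hdimP
  -- equations lifted to the relations
  obtain ⟨y, hy⟩ := H4Depth.exists_fun_fin_span_eq (I := J)
  choose w hw using fun i => (IsLocalization.mem_map_algebraMap_iff P'.primeCompl L).mp
    (hy ▸ Ideal.subset_span ⟨i, rfl⟩ : y i ∈ J)
  choose a ha F hFI hFeq using fun i => exists_smul_eq_map_mem p I ((w i).1 : MvPolynomial (Fin n) p.ResidueField)
    (hkerI ▸ (w i).1.2)
  let K := Ideal.span (Set.range F)
  have hKI : K ≤ I := Ideal.span_le.mpr (Set.range_subset_iff.mpr hFI)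
  have hJK : J = (K.map π).map γ := by
    refine le_antisymm ?_ ?_
    · refine hy.ge.trans (Ideal.span_le.mpr (Set.range_subset_iff.mpr fun i => ?_))
      have h1 : γ (π (F i)) ∈ (K.map π).map γ :=
        Ideal.mem_map_of_mem γ (Ideal.mem_map_of_mem π (Ideal.subset_span ⟨i, rfl⟩))
      rw [← hFeq i, map_mul, ← hw i, mul_left_comm] at h1
      exact (Ideal.mul_unit_mem_iff_mem _
        (((isUnit_map_C p (ha i)).map γ).mul (IsLocalization.map_units L (w i).2))).mp h1
    · rw [hJ, hkerI]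
      exact Ideal.map_mono (Ideal.map_mono hKI)
  have hgen : ∀ z ∈ I, ∃ t ∉ q.comap φ.toRingHom,
      t * z ∈ K ⊔ (q.comap (algebraMap R T)).map (algebraMap R (MvPolynomial (Fin n) R)) := fun z hz => by
    obtain ⟨s, hs, hsz⟩ := (IsLocalization.algebraMap_mem_map_algebraMap_iff P'.primeCompl L _ _).mp
      (hJK.le (Ideal.mem_map_of_mem γ (hkerI ▸ Ideal.mem_map_of_mem π hz) : γ (π z) ∈ J))
    obtain ⟨a', ha', y', hy'⟩ := exists_smul_eq_map p s
    obtain ⟨b'', hb'', hmem⟩ := exists_C_mul_mem p K (y' * z)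
      (by rw [map_mul, ← hy', mul_assoc]; exact Ideal.mul_mem_left _ _ hsz)
    refine ⟨C b'' * y', fun h => ?_, by rw [hqp, mul_assoc]; exact hmem⟩
    rw [← hP, Ideal.mem_comap, map_mul, ← hy', ← mul_assoc] at h
    exact hs ((Ideal.unit_mul_mem_iff_mem _ ((isUnit_map_C p hb'').mul (isUnit_map_C p ha'))).mp h)
  obtain ⟨h₁, hh₁, hh₁K⟩ := exists_mul_mem_of_flat_localization φ hφ hfg K hKI q hgen
  -- the point on the candidate presentation
  let S' := Synt.RelGCIRing R n c F
  have hKq : K ≤ q.comap φ.toRingHom := fun z hz => by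
    show φ z ∈ q
    rw [show φ z = 0 from hKI hz]
    exact q.zero_mem
  haveI : ((q.comap φ.toRingHom).map (Ideal.Quotient.mk K)).IsPrime :=
    Ideal.map_isPrime_of_surjective Ideal.Quotient.mk_surjective (by rw [Ideal.mk_ker]; exact hKq)
  let x₀ : PrimeSpectrum S' := ⟨(q.comap φ.toRingHom).map (Ideal.Quotient.mk K), inferInstance⟩
  have hx₀ : ∀ z, Ideal.Quotient.mk K z ∈ x₀.asIdeal ↔ z ∈ q.comap φ.toRingHom := fun z => by
    show z ∈ Ideal.comap (Ideal.Quotient.mk K) (Ideal.map _ _) ↔ _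
    rw [Ideal.comap_map_of_surjective' _ Ideal.Quotient.mk_surjective, Ideal.mk_ker, sup_eq_left.mpr hKq]
  let pp : PrimeSpectrum R := ⟨p, inferInstance⟩
  have hx₀p : x₀ ∈ PrimeSpectrum.comap (algebraMap R S') ⁻¹' {pp} := PrimeSpectrum.ext <| by
    ext r
    show Ideal.Quotient.mk K (algebraMap R _ r) ∈ x₀.asIdeal ↔ r ∈ p
    rw [hx₀, ← hqp]
    show φ (algebraMap R _ r) ∈ q ↔ _
    rw [φ.commutes]
    rfl
  -- its fibre dimension
  have hbad : (x₀ : Spec (CommRingCat.of S')) ∉ badLocus F := by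
    refine fun hbad => hbad ⟨by omega, ?_⟩
    let u := ((presMap F).fiberHomeo pp).symm ⟨x₀, hx₀p⟩
    have hu : (presMap F).fiberι pp u = x₀ := (presMap F).fiberι_fiberHomeo_symm pp ⟨x₀, hx₀p⟩
    rw [← hu, H8Props.FieldDim.fibreDimAt_eq_localDim,
      localDim_homeomorph (((presMap F).fiberHomeo pp).trans (PrimeSpectrum.preimageHomeomorphFiber R S' pp)) u]
    set Q' : PrimeSpectrum (p.Fiber S') := PrimeSpectrum.preimageEquivFiber R S' pp ⟨x₀, hx₀p⟩ with hQ'
    rw [show (((presMap F).fiberHomeo pp).trans (PrimeSpectrum.preimageHomeomorphFiber R S' pp)) u = Q' from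
      congrArg (PrimeSpectrum.preimageHomeomorphFiber R S' pp) (((presMap F).fiberHomeo pp).apply_symm_apply _)]
    have hQ'x : ∀ s : S', (1 : p.ResidueField) ⊗ₜ[R] s ∈ Q'.asIdeal ↔ s ∈ x₀.asIdeal := fun s => by
      have h0 := congrArg Subtype.val ((PrimeSpectrum.preimageEquivFiber R S' pp).symm_apply_apply ⟨x₀, hx₀p⟩)
      exact (SetLike.ext_iff.mp (congrArg PrimeSpectrum.asIdeal h0) s)
    obtain ⟨ψ', hψ', hψ'ker, hψ'X⟩ := H9Synt.exists_presentation_baseChange p.ResidueField
      (S := S') (Ideal.Quotient.mkₐ R K) Ideal.Quotient.mk_surjective F Ideal.mk_ker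
    have hψ'π : ∀ z, ψ' (π z) = (1 : p.ResidueField) ⊗ₜ[R] Ideal.Quotient.mk K z := fun z => by
      induction z using MvPolynomial.induction_on with
      | C a =>
        rw [MvPolynomial.map_C, ← MvPolynomial.algebraMap_eq, ← MvPolynomial.algebraMap_eq, ψ'.commutes,
          ← IsScalarTower.algebraMap_apply]
        exact ((Algebra.TensorProduct.includeRight : S' →ₐ[R] p.Fiber S').commutes a).symm
      | add a b ha hb => rw [map_add, map_add, map_add, ha, hb, TensorProduct.tmul_add]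
      | mul_X a i ha =>
        rw [map_mul, map_mul, MvPolynomial.map_X, ha, hψ'X, Algebra.TensorProduct.tmul_mul_tmul, one_mul, map_mul]
        rfl
    have hP'' : Q'.asIdeal.comap ψ'.toRingHom = P' := by
      refine prime_eq_of_comap_map_eq p ?_
      ext z
      rw [hP]
      show ψ' (π z) ∈ Q'.asIdeal ↔ _
      rw [hψ'π, hQ'x, hx₀]
    have hker' : RingHom.ker ψ'.toRingHom = K.map π := by
      rw [hψ'ker, Ideal.map_span, ← Set.range_comp]
      rfl
    refine localDim_le_of_presentation ψ' hψ' Q' P' hP'' _ hker' (b := b) ?_ hb' hci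
    rw [← hJK, hJ, ← height_eq_dim_localization_quotient ψ hψ Q P' rfl _ rfl, hb]
    rfl
  obtain ⟨_, ⟨s, rfl⟩, hxs, hs⟩ := PrimeSpectrum.isTopologicalBasis_basic_opens.exists_subset_of_mem_open
    (show x₀ ∈ (badLocus F : Set (PrimeSpectrum S'))ᶜ from hbad) (isClosed_badLocus F).isOpen_compl
  obtain ⟨z, rfl⟩ := Ideal.Quotient.mk_surjective s
  have hgood : ∀ x ∈ badLocus F, Ideal.Quotient.mk K (z * h₁) ∈ (x : PrimeSpectrum S').asIdeal := fun x hx => by
    rw [map_mul]
    exact Ideal.mul_mem_right _ _ (by_contra fun hzx => hs hzx hx)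
  refine ⟨_, F, z * h₁, fun h => ?_, hFI, fun w hw => by rw [mul_assoc]; exact K.mul_mem_left _ (hh₁K w hw),
    isRelGCI_awayEqs F _ hgood⟩
  exact ((Ideal.IsPrime.comap φ.toRingHom).mem_or_mem (h : z * h₁ ∈ q.comap φ.toRingHom)).elim
    (fun hz => hxs ((hx₀ z).mpr hz)) hh₁

end Groth.Agent.H9CI
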