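import Groth.Agent.H3CAlg.TorBasic

/-!
# `Tor₁` surjectivity criterion, and additivity of left derived functors
-/

universe v u v' u'

open CategoryTheory CategoryTheory.Limits MonoidalCategory

namespace Groth.Agent.H9CI.TorEpi

theorem additive_leftDerived {C : Type u} [Category.{v} C] [Abelian C] [HasProjectiveResolutions C]
    {D : Type u'} [Category.{v'} D] [Abelian D] (G : C ⥤ D) [G.Additive] (n : ℕ) :
    (G.leftDerived n).Additive where
  map_add {X Y f g} := by
    let P := projectiveResolution X
    let Q := projectiveResolution Y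
    rw [G.leftDerived_map_eq n (f + g) (P := P) (Q := Q)
        (ProjectiveResolution.lift f P Q + ProjectiveResolution.lift g P Q)
        (by rw [Preadditive.add_comp, Functor.map_add, Preadditive.comp_add,
              ProjectiveResolution.lift_commutes, ProjectiveResolution.lift_commutes]),
      G.leftDerived_map_eq n f (P := P) (Q := Q) (ProjectiveResolution.lift f P Q) (ProjectiveResolution.lift_commutes f P Q),
      G.leftDerived_map_eq n g (P := P) (Q := Q) (ProjectiveResolution.lift g P Q) (ProjectiveResolution.lift_commutes g P Q),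
      Functor.map_add, Preadditive.add_comp, Preadditive.comp_add]

variable {R : Type u} [CommRing R]

/-- If `X₁` is projective, `Tor₁(L, X₂) → Tor₁(L, X₃)` is onto iff `L ⊗ X₁ → L ⊗ X₂` is injective. -/
theorem epi_map_one_iff (L : ModuleCat.{u} R) (S : ShortComplex (ModuleCat.{u} R)) (hS : S.ShortExact)
    [Projective S.X₁] :
    Epi (((Tor (ModuleCat.{u} R) 1).obj L).map S.g) ↔ Function.Injective (S.f.hom.lTensor L) := by
  obtain ⟨-, -, δ, w₁, w₂, h₁, h₂⟩ := Groth.Agent.H3CAlg.Tor.les₂ L S hS 0
  have e := (Groth.Agent.H3CAlg.Tor.zeroIso L).hom.naturality S.f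
  have hinj : Function.Injective (S.f.hom.lTensor L) ↔ Mono (((Tor (ModuleCat.{u} R) 0).obj L).map S.f) := by
    rw [← mono_comp_iff_of_mono (((Tor (ModuleCat.{u} R) 0).obj L).map S.f) ((Groth.Agent.H3CAlg.Tor.zeroIso L).hom.app S.X₂),
      e, mono_comp_iff_of_isIso, ModuleCat.mono_iff_injective]
    rfl
  rw [hinj]
  constructor
  · intro h
    have hδ : δ = 0 := by rw [← cancel_epi (((Tor (ModuleCat.{u} R) 1).obj L).map S.g), w₁, comp_zero]
    exact h₂.mono_g hδ
  · intro h
    have hδ : δ = 0 := by rw [← cancel_mono (((Tor (ModuleCat.{u} R) 0).obj L).map S.f), w₂, zero_comp]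
    exact h₁.epi_f hδ

end Groth.Agent.H9CI.TorEpi
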